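import Groth.Prelude.Def_CotT
import Mathlib

/-!
# `T²` with coefficients in a free module
-/

noncomputable section

universe u

open TensorProduct

namespace GrothLib.T2Obs26

variable {k : Type u} [Field k] {B : Type u} [CommRing B] [Algebra k B] {ι σ : Type u}
  (P : Algebra.Presentation k B ι σ) {V V' : Type u} [AddCommGroup V] [Module k V] [AddCommGroup V'] [Module k V']

/-- `b ↦ b ⊗ v`. -/
abbrev inV (v : V) : B →ₗ[B] B ⊗[k] V := LinearMap.toSpanSingleton B _ (1 ⊗ₜ v)

theorem T2map_mk {M N : Type u} [AddCommGroup M] [Module B M] [AddCommGroup N] [Module B N] (g : M →ₗ[B] N)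
    (f : CotT.L2 P →ₗ[B] M) : CotT.T2map P g (CotT.toT2 P M f) = CotT.toT2 P N (g ∘ₗ f) := rfl

theorem toT2_surjective (M : Type u) [AddCommGroup M] [Module B M] : Function.Surjective (CotT.toT2 P M) :=
  Submodule.mkQ_surjective _

theorem T2map_add {M N : Type u} [AddCommGroup M] [Module B M] [AddCommGroup N] [Module B N] (g g' : M →ₗ[B] N)
    (τ : CotT.T2 P M) : CotT.T2map P (g + g') τ = CotT.T2map P g τ + CotT.T2map P g' τ := by
  obtain ⟨f, rfl⟩ := toT2_surjective P M τ
  rw [T2map_mk, T2map_mk, T2map_mk, LinearMap.add_comp]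
  exact map_add _ _ _

theorem T2map_smul {M N : Type u} [AddCommGroup M] [Module B M] [AddCommGroup N] [Module B N] (g : M →ₗ[B] N) (b : B)
    (τ : CotT.T2 P M) : CotT.T2map P (b • g) τ = b • CotT.T2map P g τ := by
  obtain ⟨f, rfl⟩ := toT2_surjective P M τ
  rw [T2map_mk, T2map_mk, LinearMap.smul_comp]
  exact map_smul _ _ _

theorem T2map_comp {M N L : Type u} [AddCommGroup M] [Module B M] [AddCommGroup N] [Module B N]
    [AddCommGroup L] [Module B L] (g : M →ₗ[B] N) (g' : N →ₗ[B] L) (τ : CotT.T2 P M) :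
    CotT.T2map P g' (CotT.T2map P g τ) = CotT.T2map P (g' ∘ₗ g) τ := by
  obtain ⟨f, rfl⟩ := toT2_surjective P M τ
  rw [T2map_mk, T2map_mk, T2map_mk]
  rfl

theorem T2map_id {M : Type u} [AddCommGroup M] [Module B M] (τ : CotT.T2 P M) :
    CotT.T2map P LinearMap.id τ = τ := by
  obtain ⟨f, rfl⟩ := toT2_surjective P M τ
  rw [T2map_mk, LinearMap.id_comp]

theorem T2map_sum {M N : Type u} [AddCommGroup M] [Module B M] [AddCommGroup N] [Module B N] {α : Type*}
    (s : Finset α) (g : α → M →ₗ[B] N) (τ : CotT.T2 P M) :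
    CotT.T2map P (∑ i ∈ s, g i) τ = ∑ i ∈ s, CotT.T2map P (g i) τ := by
  classical
  induction s using Finset.induction_on with
  | empty =>
    obtain ⟨f, rfl⟩ := toT2_surjective P M τ
    rw [Finset.sum_empty, Finset.sum_empty, T2map_mk, LinearMap.zero_comp, map_zero]
  | insert a s ha ih => rw [Finset.sum_insert ha, Finset.sum_insert ha, T2map_add, ih]

/-- `T²(B) ⊗ V → T²(B ⊗ V)`. -/
def Θ (V : Type u) [AddCommGroup V] [Module k V] : CotT.T2 P B ⊗[k] V →ₗ[k] CotT.T2 P (B ⊗[k] V) :=
  TensorProduct.lift (LinearMap.mk₂ k (fun τ v => CotT.T2map P (inV v) τ)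
    (fun a b v => map_add _ _ _)
    (fun c a v => (LinearMap.map_smul_of_tower (CotT.T2map P (inV v)) c a))
    (fun τ v w => by
      rw [show inV (k := k) (B := B) (v + w) = inV v + inV w from LinearMap.ext fun b => by
        simp [tmul_add], T2map_add])
    fun c τ v => by
      rw [show inV (k := k) (B := B) (c • v) = algebraMap k B c • inV v from LinearMap.ext fun b => by
        rw [LinearMap.smul_apply, algebraMap_smul]
        simp [tmul_smul, smul_comm c b], T2map_smul, algebraMap_smul])

theorem Θ_tmul (τ : CotT.T2 P B) (v : V) : Θ P V (τ ⊗ₜ v) = CotT.T2map P (inV v) τ := rfl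

theorem Θ_natural (f : V →ₗ[k] V') (x : CotT.T2 P B ⊗[k] V) :
    Θ P V' (LinearMap.lTensor _ f x) = CotT.T2map P (f.baseChange B) (Θ P V x) := by
  induction x using TensorProduct.induction_on with
  | zero => simp
  | tmul τ v =>
    rw [LinearMap.lTensor_tmul, Θ_tmul, Θ_tmul, T2map_comp]
    exact congrArg (fun g => CotT.T2map P g τ) (LinearMap.ext fun b => by simp)
  | add a b ha hb =>
    calc Θ P V' (LinearMap.lTensor _ f (a + b))
        = Θ P V' (LinearMap.lTensor _ f a) + Θ P V' (LinearMap.lTensor _ f b) :=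
          (congrArg (Θ P V') ((LinearMap.lTensor _ f).map_add a b)).trans ((Θ P V').map_add _ _)
      _ = CotT.T2map P (f.baseChange B) (Θ P V a) + CotT.T2map P (f.baseChange B) (Θ P V b) := by rw [ha, hb]
      _ = CotT.T2map P (f.baseChange B) (Θ P V (a + b)) :=
          ((congrArg (CotT.T2map P (f.baseChange B)) ((Θ P V).map_add a b)).trans
            ((CotT.T2map P (f.baseChange B)).map_add _ _)).symm

theorem Θ_bijective [Module.Finite k V] : Function.Bijective (Θ P V) := by
  classical
  let b := Module.finBasis k V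
  let π : Fin (Module.finrank k V) → B ⊗[k] V →ₗ[B] B := fun i =>
    (TensorProduct.AlgebraTensorModule.rid k B B).toLinearMap ∘ₗ (b.coord i).baseChange B
  let Φ : CotT.T2 P (B ⊗[k] V) → CotT.T2 P B ⊗[k] V := fun z => ∑ i, CotT.T2map P (π i) z ⊗ₜ b i
  refine Function.bijective_iff_has_inverse.2 ⟨Φ, fun x => ?_, fun z => ?_⟩
  · have hadd : ∀ y z, Φ (y + z) = Φ y + Φ z := fun y z => by
      simp only [Φ, map_add, add_tmul, Finset.sum_add_distrib]
    induction x using TensorProduct.induction_on with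
    | zero => simp [Φ]
    | tmul τ v =>
      show ∑ i, CotT.T2map P (π i) (Θ P V (τ ⊗ₜ v)) ⊗ₜ b i = _
      have h : ∀ i, CotT.T2map P (π i) (Θ P V (τ ⊗ₜ v)) = b.coord i v • τ := fun i => by
        rw [Θ_tmul, T2map_comp, show π i ∘ₗ inV v = algebraMap k B (b.coord i v) • LinearMap.id from
          LinearMap.ext fun c => by simp [π, Algebra.smul_def, mul_comm], T2map_smul, T2map_id, algebraMap_smul]
      simp only [h, smul_tmul, ← tmul_sum]
      congr 1
      exact b.sum_repr v
    | add a c ha hc => rw [map_add, hadd, ha, hc]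
  · show Θ P V (∑ i, CotT.T2map P (π i) z ⊗ₜ b i) = z
    simp only [map_sum, Θ_tmul, T2map_comp]
    rw [← T2map_sum]
    conv_rhs => rw [← T2map_id P z]
    refine congrArg (fun g => CotT.T2map P g z) ?_
    refine TensorProduct.AlgebraTensorModule.ext fun c v => ?_
    simp only [LinearMap.sum_apply, LinearMap.coe_comp, Function.comp_apply, LinearMap.id_apply, π,
      LinearMap.baseChange_tmul, LinearEquiv.coe_coe, TensorProduct.AlgebraTensorModule.rid_tmul,
      LinearMap.toSpanSingleton_apply, TensorProduct.smul_tmul', smul_eq_mul, mul_one]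
    conv_rhs => rw [← b.sum_repr v]
    rw [tmul_sum]
    exact Finset.sum_congr rfl fun i _ => by rw [Module.Basis.coord_apply, smul_tmul]

end GrothLib.T2Obs26
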