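import Groth.Agent.Lib.T2Obs26.Lift
import Groth.Agent.Lib.T2Obs26.Theta
import Groth.Agent.Lib.ArtFun.Criteria
import Groth.Prelude.Def_ArtFun4

/-!
# The obstruction theory with values in `T²`
-/

noncomputable section

universe u

open CategoryTheory AlgebraicGeometry ArtFun ArtFun.Art MvPolynomial TensorProduct GrothLib.AffDef

namespace GrothLib.T2Obs26

variable {k : Type u} [Field k] {B₀ : Type u} [CommRing B₀] [Algebra k B₀] {ι σ : Type u}
  (P : Algebra.Presentation k B₀ ι σ)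

theorem finite_Jker {C' A : ArtFun.Art k k} (p : C' ⟶ A) : Module.Finite k (Jker p) := by
  haveI : Module.Finite k C' := GrothLib.ArtFun.finite_art C'
  let f : Jker p →ₗ[k] C' :=
    { toFun := fun j => (j : C')
      map_add' := fun _ _ => rfl
      map_smul' := fun _ _ => rfl }
  exact Module.Finite.of_injective f Subtype.val_injective

variable {P}

namespace Frame

variable {C' C'' A : ArtFun.Art k k} (W : Frame P A) {p : C' ⟶ A} (hp : IsSemismallExt p)

theorem exists_relKer_eq {q : σ →₀ MvPolynomial ι C'} (hq : W.Rel' p q) :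
    ∃ y : CotT.relKer P, (y : CotT.relMod P) = redVec q := by
  refine ⟨⟨redVec q, LinearMap.mem_ker.2 ?_⟩, rfl⟩
  show Finsupp.linearCombination (MvPolynomial ι k) P.relation (redVec q) = 0
  rw [← redVec_vmap p, ← show (fun s => red ι A (W.r s)) = P.relation from funext W.hred,
    ← red_linearCombination, show Finsupp.linearCombination _ W.r (vmap p q) = 0 from hq, map_zero]

include hp

theorem ob_ext {M : Type u} [AddCommGroup M] [Module B₀ M] {f g : CotT.L2 P →ₗ[B₀] M}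
    (h : ∀ (q : σ →₀ MvPolynomial ι C') (y : CotT.relKer P), W.Rel' p q → redVec q = (y : CotT.relMod P) →
      f (Submodule.Quotient.mk (1 ⊗ₜ y)) = g (Submodule.Quotient.mk (1 ⊗ₜ y))) : f = g := by
  refine LinearMap.ext fun x => ?_
  obtain ⟨x, rfl⟩ := Submodule.Quotient.mk_surjective _ x
  induction x using TensorProduct.induction_on with
  | zero => rw [Submodule.Quotient.mk_zero, map_zero, map_zero]
  | add a b ha hb => rw [Submodule.Quotient.mk_add, map_add, map_add, ha, hb]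
  | tmul b y => ?_
  obtain ⟨q, hq, hq'⟩ := exists_rel' (W := W) hp (LinearMap.mem_ker.1 y.2)
  have e : (b ⊗ₜ[P.toExtension.Ring] y) = b • ((1 : B₀) ⊗ₜ[P.toExtension.Ring] y) := by
    rw [TensorProduct.smul_tmul', smul_eq_mul, mul_one]
  show f (Submodule.Quotient.mk (b ⊗ₜ y)) = g (Submodule.Quotient.mk (b ⊗ₜ y))
  rw [e, Submodule.Quotient.mk_smul, map_smul, map_smul, h q y hq hq']

variable (p) in
omit hp in
/-- The class of the obstruction of a lift of the relations. -/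
def IsObs (r' : σ → MvPolynomial ι C') (τ : CotT.T2 P (B₀ ⊗[k] Jker p)) : Prop :=
  ∃ ob : CotT.L2 P →ₗ[B₀] B₀ ⊗[k] Jker p, CotT.toT2 P _ ob = τ ∧
    ∀ (q : σ →₀ MvPolynomial ι C') (y : CotT.relKer P), W.Rel' p q → redVec q = (y : CotT.relMod P) →
      ob (Submodule.Quotient.mk (1 ⊗ₜ y)) = ev (P := P) p r' q

theorem exists_isObs {r' : σ → MvPolynomial ι C'} (h : W.IsLift p r') : ∃ τ, W.IsObs p r' τ := by
  obtain ⟨ob, hob⟩ := exists_ob (W := W) hp h
  exact ⟨_, ob, rfl, hob⟩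

theorem isObs_unique {r' r'' : σ → MvPolynomial ι C'} (h : W.IsLift p r') (h' : W.IsLift p r'')
    {τ τ' : CotT.T2 P (B₀ ⊗[k] Jker p)} (hτ : W.IsObs p r' τ) (hτ' : W.IsObs p r'' τ') : τ = τ' := by
  obtain ⟨ob, rfl, hob⟩ := hτ
  obtain ⟨ob', rfl, hob'⟩ := hτ'
  let φ : CotT.L1 P →ₗ[B₀] B₀ ⊗[k] Jker p := (CotT.L1basis P).constr B₀ fun s => Ψ P p (r'' s - r' s)
  have hφ : ∀ s, φ (CotT.L1basis P s) = Ψ P p (r'' s - r' s) := fun s => Module.Basis.constr_basis _ _ _ _
  refine ((Submodule.Quotient.eq _).2 (LinearMap.mem_range.2 ⟨φ, ?_⟩)).symm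
  refine W.ob_ext hp fun q y hq hy => ?_
  rw [CotT.d2Star_apply, LinearMap.comp_apply, CotT.d2_mk_tmul, LinearMap.sub_apply, hob q y hq hy,
    hob' q y hq hy, ev_add_change hp h h' φ hφ q, hy, add_sub_cancel_left]

theorem isObs_zero_iff {r' : σ → MvPolynomial ι C'} (h : W.IsLift p r') {τ : CotT.T2 P (B₀ ⊗[k] Jker p)}
    (hτ : W.IsObs p r' τ) :
    τ = 0 ↔ ∃ r'', W.IsLift p r'' ∧ ∀ q, W.Rel' p q → ev (P := P) p r'' q = 0 := by
  obtain ⟨ob, rfl, hob⟩ := hτ
  constructor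
  · intro h0
    obtain ⟨φ, hφ⟩ := (Submodule.Quotient.mk_eq_zero _).1 h0
    choose z hz hz' using fun s => Ψ_surjective (ι := ι) P p hp (-φ (CotT.L1basis P s))
    refine ⟨fun s => r' s + z s, fun s => by rw [map_add, h, RingHom.mem_ker.1 (hz s), add_zero], fun q hq => ?_⟩
    obtain ⟨y, hy⟩ := W.exists_relKer_eq hq
    have e := ev_add_change hp h (r'' := fun s => r' s + z s) (fun s => by rw [map_add, h, RingHom.mem_ker.1 (hz s), add_zero])
      (-φ) (fun s => by rw [add_sub_cancel_left, hz', LinearMap.neg_apply]) q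
    rw [e, ← hob q y hq hy.symm, ← hφ, CotT.d2Star_apply, LinearMap.comp_apply, CotT.d2_mk_tmul, hy,
      LinearMap.neg_apply, add_neg_cancel]
  · rintro ⟨r'', h', h0⟩
    refine W.isObs_unique hp h h' ⟨ob, rfl, hob⟩ (τ' := 0) ⟨0, map_zero _, fun q y hq _ => ?_⟩
    rw [h0 q hq, LinearMap.zero_apply]

theorem isObs_map {q : C'' ⟶ A} (hq : IsSemismallExt q) (f : C' ⟶ C'') (hf : f ≫ q = p)
    (fJ : Jker p →ₗ[k] Jker q) (hfJ : ∀ j : Jker p, (fJ j : C'') = f j)
    {r' : σ → MvPolynomial ι C'} (h : W.IsLift p r') {τ : CotT.T2 P (B₀ ⊗[k] Jker p)} (hτ : W.IsObs p r' τ) :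
    W.IsLift q (fun s => MvPolynomial.map f.toAlgHom.toRingHom (r' s)) ∧
      W.IsObs q (fun s => MvPolynomial.map f.toAlgHom.toRingHom (r' s)) (CotT.T2map P (fJ.baseChange B₀) τ) := by
  obtain ⟨ob, rfl, hob⟩ := hτ
  have hmm : ∀ x : MvPolynomial ι C', pm q (MvPolynomial.map f.toAlgHom.toRingHom x) = pm p x := fun x => by
    subst hf
    rw [MvPolynomial.map_map]
    rfl
  refine ⟨fun s => (hmm _).trans (h s), fJ.baseChange B₀ ∘ₗ ob, rfl, ?_⟩
  intro q'' y hq'' hy
  obtain ⟨Q, hQ, hQ'⟩ := exists_rel' (W := W) hp (LinearMap.mem_ker.1 y.2)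
  let Q' : σ →₀ MvPolynomial ι C'' := Q.mapRange (MvPolynomial.map f.toAlgHom.toRingHom) (map_zero _)
  have hQ'' : W.Rel' q Q' := by
    show Finsupp.linearCombination _ W.r (vmap q Q') = 0
    rw [show vmap q Q' = vmap p Q from Finsupp.ext fun s => by simp only [Q', Finsupp.mapRange_apply]; exact hmm _]
    exact hQ
  have hred : redVec Q' = (y : CotT.relMod P) := by
    refine Eq.trans ?_ hQ'
    ext s : 1
    simp only [Q', Finsupp.mapRange_apply]
    show MvPolynomial.map _ (MvPolynomial.map _ (Q s)) = MvPolynomial.map _ (Q s)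
    rw [MvPolynomial.map_map]
    congr 2
    exact RingHom.ext fun c => Art.res_app f c
  rw [LinearMap.comp_apply, hob Q y hQ hQ',
    ev_congr (W := W) hq (r' := fun s => MvPolynomial.map f.toAlgHom.toRingHom (r' s)) (fun s => (hmm _).trans (h s)) hq'' hQ''
      (hy.trans hred.symm)]
  rw [LinearMap.baseChange_eq_ltensor, ev, ev, ← Ψ_map P p hp hq f fJ hfJ ((rel'_iff h).1 hQ)]
  congr 1
  simp only [Finsupp.linearCombination_apply, Q', smul_eq_mul]
  rw [Finsupp.sum_mapRange_index (by simp)]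
  simp [Finsupp.sum, map_sum]

end Frame

variable (P)

local notation "X₀" => Spec (CommRingCat.of B₀)
local notation "x₀" => Spec.map (CommRingCat.ofHom (algebraMap k B₀))

theorem exists_frame {A : ArtFun.Art k k} (u : (defFunctor (Λ := k) X₀ x₀).obj A) :
    ∃ W : Frame P A, W.D.toDefSch.cl = u := by
  induction u using Quotient.inductionOn with
  | h ξ =>
    obtain ⟨D, ⟨e⟩⟩ := exists_affData ξ
    obtain ⟨W, rfl⟩ := nonempty_frame (P := P) D
    exact ⟨W, Quotient.sound ⟨e.symm⟩⟩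

theorem exists_map_eq_iff {C' A : ArtFun.Art k k} {p : C' ⟶ A} (hp : IsSemismallExt p) (W : Frame P A) :
    (∃ u' : (defFunctor (Λ := k) X₀ x₀).obj C', (defFunctor (Λ := k) X₀ x₀).map p u' = W.D.toDefSch.cl) ↔
      ∃ r', W.IsLift p r' ∧ ∀ q, W.Rel' p q → Frame.ev (P := P) p r' q = 0 := by
  constructor
  · rintro ⟨u', hu'⟩
    induction u' using Quotient.inductionOn with
    | h ξ =>
      obtain ⟨e⟩ := Quotient.exact hu'
      letI := algR p W.D
      obtain ⟨L, -⟩ := exists_isRep p hp.1 (D := W.D) ⟨ξ, e⟩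
      exact W.exists_isLift_of_lift hp L
  · rintro ⟨r', h, h0⟩
    letI := algR p W.D
    obtain ⟨L⟩ := W.exists_lift hp h h0
    obtain ⟨a, -⟩ := exists_isRep_lift p hp.1 (D := W.D) L
    exact ⟨a.1.cl, Quotient.sound ⟨a.2⟩⟩

/-- `T²` is an obstruction space of the deformation functor. -/
theorem hasObsTheory_T2 :
    HasObsTheory (defFunctor (Λ := k) X₀ x₀) (CotT.T2 P B₀) := by
  choose W hW using fun (A : ArtFun.Art k k) (u : (defFunctor (Λ := k) X₀ x₀).obj A) => exists_frame P u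
  let lift : ∀ {C' A : ArtFun.Art k k} (p : C' ⟶ A) (_ : IsSemismallExt p) (u : (defFunctor (Λ := k) X₀ x₀).obj A),
      σ → MvPolynomial ι C' := fun p hp u => ((W _ u).exists_isLift p hp).choose
  have hlift : ∀ {C' A : ArtFun.Art k k} (p : C' ⟶ A) (hp : IsSemismallExt p)
      (u : (defFunctor (Λ := k) X₀ x₀).obj A), (W _ u).IsLift p (lift p hp u) :=
    fun p hp u => ((W _ u).exists_isLift p hp).choose_spec
  let cls : ∀ {C' A : ArtFun.Art k k} (p : C' ⟶ A) (_ : IsSemismallExt p) (u : (defFunctor (Λ := k) X₀ x₀).obj A),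
      CotT.T2 P (B₀ ⊗[k] Jker p) := fun p hp u => ((W _ u).exists_isObs hp (hlift p hp u)).choose
  have hcls : ∀ {C' A : ArtFun.Art k k} (p : C' ⟶ A) (hp : IsSemismallExt p)
      (u : (defFunctor (Λ := k) X₀ x₀).obj A), (W _ u).IsObs p (lift p hp u) (cls p hp u) :=
    fun p hp u => ((W _ u).exists_isObs hp (hlift p hp u)).choose_spec
  let e : ∀ {C' A : ArtFun.Art k k} (p : C' ⟶ A), CotT.T2 P B₀ ⊗[k] Jker p ≃ₗ[k] CotT.T2 P (B₀ ⊗[k] Jker p) :=
    fun p => haveI := finite_Jker p; LinearEquiv.ofBijective (Θ P (Jker p)) (Θ_bijective P)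
  refine ⟨⟨fun p hp u => (e p).symm (cls p hp u), fun p hp u => ?_, fun p hp K hK hKJ hq u => ?_⟩⟩
  · rw [LinearEquiv.map_eq_zero_iff, (W _ u).isObs_zero_iff hp (hlift p hp u) (hcls p hp u),
      ← exists_map_eq_iff P hp, hW]
  · rw [LinearEquiv.symm_apply_eq]
    show cls _ hq u = Θ P _ (LinearMap.lTensor _ ((Art.kerToQuot hK p hKJ).restrictScalars k) ((e p).symm (cls p hp u)))
    rw [Θ_natural, show Θ P _ ((e p).symm (cls p hp u)) = cls p hp u from (e p).apply_symm_apply _]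
    obtain ⟨h1, h2⟩ := (W _ u).isObs_map hp hq (Art.quotMk _ K hK) (Art.quotMk_quotFactor hK p hKJ)
      ((Art.kerToQuot hK p hKJ).restrictScalars k) (fun j => rfl) (hlift p hp u) (hcls p hp u)
    exact (W _ u).isObs_unique hq (hlift _ hq u) h1 (hcls _ hq u) h2

end GrothLib.T2Obs26
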