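import Groth.Agent.Lib.T2Obs26.Tangent
import Groth.Agent.Lib.T2Obs26.Theory
import Groth.Agent.Lib.ArtFun.RingPresent
import Groth.Agent.Lib.ArtFun.DualLift
import Groth.Agent.Lib.ArtFun.SmoothFun

/-!
# The hull of the deformation functor of an affine scheme
-/

noncomputable section

universe u

open CategoryTheory AlgebraicGeometry ArtFun ArtFun.Art TensorProduct GrothLib.AffDef IsLocalRing

namespace GrothLib.T2Obs26

variable {k : Type u} [Field k] {B₀ : Type u} [CommRing B₀] [Algebra k B₀] {ι σ : Type u}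
  (P : Algebra.Presentation k B₀ ι σ)

local notation "X₀" => Spec (CommRingCat.of B₀)
local notation "x₀" => Spec.map (CommRingCat.ofHom (algebraMap k B₀))
local notation "DF" => defFunctor (Λ := k) X₀ x₀

theorem isSemismall_toBase (C : ArtFun.Art k k) (h : ∀ r s : C, C.res r = 0 → C.res s = 0 → r * s = 0) :
    IsSemismallExt (Art.toBase C) := by
  refine ⟨C.res_surjective, le_bot_iff.1 (Ideal.mul_le.2 fun r hr s hs => ?_)⟩
  rw [Ideal.mem_bot]
  exact h r s ((Art.mem_maximalIdeal_iff C r).1 hr) hs

theorem tsze_mul_eq_zero {M : Type u} [AddCommGroup M] [Module k M] [Module kᵐᵒᵖ M] [IsCentralScalar k M]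
    {r s : TrivSqZeroExt k M} (hr : r.fst = 0) (hs : s.fst = 0) : r * s = 0 := by
  refine TrivSqZeroExt.ext ?_ ?_
  · rw [TrivSqZeroExt.fst_mul, hr, zero_mul, TrivSqZeroExt.fst_zero]
  · rw [TrivSqZeroExt.snd_mul, hr, hs, zero_smul, MulOpposite.op_zero, zero_smul, add_zero, TrivSqZeroExt.snd_zero]

theorem semismall_dual : IsSemismallExt (Art.toBase (Art.dual k k)) :=
  isSemismall_toBase _ fun _ _ hr hs => tsze_mul_eq_zero (M := k) hr hs

theorem semismall_dual2 : IsSemismallExt (Art.toBase (Art.dual2 k k)) :=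
  isSemismall_toBase _ fun _ _ hr hs => tsze_mul_eq_zero (M := k × k) hr hs

/-- The class in `T¹` of a deformation over a first order ring. -/
def tang {C : ArtFun.Art k k} (hC : IsSemismallExt (Art.toBase C)) :
    (DF).obj C → CotT.T1 P (B₀ ⊗[k] mker C) := (exists_tang P hC).choose

theorem tang_bijective {C : ArtFun.Art k k} (hC : IsSemismallExt (Art.toBase C)) :
    Function.Bijective (tang P hC) := (exists_tang P hC).choose_spec.1

theorem mker_map {C' C'' : ArtFun.Art k k} (f : C' ⟶ C'') {c : C'} (hc : c ∈ mker C') : f c ∈ mker C'' :=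
  (Art.res_app f c).trans hc

/-- The map on kernels of the residue maps. -/
def mkerMap {C' C'' : ArtFun.Art k k} (f : C' ⟶ C'') : mker C' →ₗ[k] mker C'' where
  toFun j := ⟨f (j : C'), mker_map f j.2⟩
  map_add' _ _ := Subtype.ext (map_add _ _ _)
  map_smul' c j := Subtype.ext (map_smul f.toAlgHom c (j : C'))

theorem tang_map {C' C'' : ArtFun.Art k k} (h : IsSemismallExt (Art.toBase C')) (h' : IsSemismallExt (Art.toBase C''))
    (f : C' ⟶ C'') (u : (DF).obj C') :
    tang P h' ((DF).map f u) = CotT.T1map P ((mkerMap f).baseChange B₀) (tang P h u) := by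
  induction u using Quotient.inductionOn with
  | h ξ =>
    obtain ⟨D, ⟨e⟩⟩ := exists_affData ξ
    have hu : (⟦ξ⟧ : (DF).obj C') = D.toDefSch.cl := Quotient.sound ⟨e⟩
    rw [hu]
    obtain ⟨X, hX⟩ := exists_isTangExt h D
    obtain ⟨D', ⟨e'⟩⟩ := exists_affData (D.toDefSch.baseChange f)
    have hu' : (DF).map f D.toDefSch.cl = D'.toDefSch.cl := Quotient.sound ⟨e'⟩
    obtain ⟨Y, hY⟩ := exists_isTangExt h' D'
    obtain ⟨g, hg, hgι⟩ := exists_ringHom_of_map_cl f hu'
    rw [hu', tang, tang, (exists_tang P h').choose_spec.2 D' Y hY, (exists_tang P h).choose_spec.2 D X hX]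
    exact tang_congr P hX hY f.toAlgHom (mkerMap f) (fun _ => rfl) g hg hgι

/-- The scalar attached to a linear form on the kernel of the residue map. -/
def toB {C : ArtFun.Art k k} (l : mker C →ₗ[k] k) : B₀ ⊗[k] mker C →ₗ[B₀] B₀ :=
  (TensorProduct.AlgebraTensorModule.rid k B₀ B₀).toLinearMap ∘ₗ l.baseChange B₀

/-- `ε`-coefficient. -/
def sndForm : mker (Art.dual k k) →ₗ[k] k where
  toFun j := TrivSqZeroExt.snd (show DualNumber k from j.1)
  map_add' _ _ := rfl
  map_smul' _ _ := rfl

/-- First coefficient. -/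
def fstForm₂ : mker (Art.dual2 k k) →ₗ[k] k where
  toFun j := (TrivSqZeroExt.snd (show TrivSqZeroExt k (k × k) from j.1)).1
  map_add' _ _ := rfl
  map_smul' _ _ := rfl

/-- Second coefficient. -/
def sndForm₂ : mker (Art.dual2 k k) →ₗ[k] k where
  toFun j := (TrivSqZeroExt.snd (show TrivSqZeroExt k (k × k) from j.1)).2
  map_add' _ _ := rfl
  map_smul' _ _ := rfl

theorem sndForm_bijective : Function.Bijective (sndForm (k := k)) := by
  refine ⟨fun a b h => Subtype.ext (TrivSqZeroExt.ext ((show _ = (0 : k) from a.2).trans (show (0 : k) = _ from b.2.symm)) h),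
    fun c => ⟨⟨(TrivSqZeroExt.inr c : DualNumber k), TrivSqZeroExt.fst_inr k c⟩, rfl⟩⟩

/-- The tangent vector of a deformation over the dual numbers. -/
def Td (u : (DF).obj (Art.dual k k)) : CotT.T1 P B₀ :=
  CotT.T1map P (toB sndForm) (tang P semismall_dual u)

theorem Td_bijective : Function.Bijective (Td (B₀ := B₀) P) := by
  refine Function.Bijective.comp ?_ (tang_bijective P _)
  let e := LinearEquiv.ofBijective (sndForm (k := k)) sndForm_bijective
  let g : B₀ →ₗ[B₀] B₀ ⊗[k] mker (Art.dual k k) :=
    e.symm.toLinearMap.baseChange B₀ ∘ₗ (TensorProduct.AlgebraTensorModule.rid k B₀ B₀).symm.toLinearMap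
  refine Function.bijective_iff_has_inverse.2 ⟨CotT.T1map P g, fun τ => ?_, fun τ => ?_⟩
  · rw [T1map_comp, show g ∘ₗ toB sndForm = LinearMap.id from ?_, T1map_id]
    refine TensorProduct.AlgebraTensorModule.ext fun b j => ?_
    simp only [g, toB, LinearMap.coe_comp, Function.comp_apply, LinearMap.baseChange_tmul, LinearEquiv.coe_coe,
      LinearEquiv.symm_apply_apply, LinearMap.id_apply]
    exact congrArg (fun t => b ⊗ₜ[k] t) (e.symm_apply_apply j)
  · rw [T1map_comp, show toB sndForm ∘ₗ g = LinearMap.id from ?_, T1map_id]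
    refine LinearMap.ext_ring ?_
    simp only [g, toB, LinearMap.coe_comp, Function.comp_apply, LinearMap.baseChange_tmul, LinearEquiv.coe_coe,
      TensorProduct.AlgebraTensorModule.rid_symm_apply, TensorProduct.AlgebraTensorModule.rid_tmul,
      LinearMap.id_apply]
    rw [show sndForm (e.symm 1) = 1 from e.apply_symm_apply 1, one_smul]

theorem toB_add {C : ArtFun.Art k k} (l l' : mker C →ₗ[k] k) :
    toB (B₀ := B₀) (l + l') = toB l + toB l' := by
  simp [toB, LinearMap.baseChange_add, LinearMap.comp_add]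

theorem toB_smul {C : ArtFun.Art k k} (c : k) (l : mker C →ₗ[k] k) :
    toB (B₀ := B₀) (c • l) = algebraMap k B₀ c • toB l :=
  TensorProduct.AlgebraTensorModule.ext fun b j => by
    simp [toB, smul_tmul', Algebra.smul_def, mul_assoc, mul_comm, mul_left_comm]

theorem toB_comp {C' C'' : ArtFun.Art k k} (l : mker C'' →ₗ[k] k) (f : C' ⟶ C'') :
    toB (B₀ := B₀) l ∘ₗ (mkerMap f).baseChange B₀ = toB (l ∘ₗ mkerMap f) :=
  TensorProduct.AlgebraTensorModule.ext fun b j => by simp [toB]

theorem Td_map_dual2 (f : Art.dual2 k k ⟶ Art.dual k k) (z : (DF).obj (Art.dual2 k k)) :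
    Td P ((DF).map f z) = CotT.T1map P (toB (sndForm ∘ₗ mkerMap f)) (tang P semismall_dual2 z) := by
  rw [Td, tang_map P semismall_dual2 semismall_dual, T1map_comp, toB_comp]

theorem Td_add (z : (DF).obj (Art.dual2 k k)) :
    Td P ((DF).map Art.pr₁ z) + Td P ((DF).map Art.pr₂ z) = Td P ((DF).map Art.plus z) := by
  rw [Td_map_dual2, Td_map_dual2, Td_map_dual2, ← T1map_add, ← toB_add]
  refine congrArg (fun l => CotT.T1map P (toB l) (tang P semismall_dual2 z)) ?_
  exact LinearMap.ext fun j => rfl

theorem Td_scale (c : k) (u : (DF).obj (Art.dual k k)) : Td P ((DF).map (Art.scale c) u) = c • Td P u := by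
  rw [Td, Td, tang_map P semismall_dual semismall_dual, T1map_comp, toB_comp,
    show sndForm ∘ₗ mkerMap (Art.scale (Λ := k) c) = c • sndForm from LinearMap.ext fun j => rfl, toB_smul,
    T1map_smul, algebraMap_smul]

variable {P}

section Hull

variable (R : CRing k k)

theorem residue_res (a : R.carrier) : algebraMap k (ResidueField R.carrier) (R.res a) = residue R.carrier a := by
  rw [IsScalarTower.algebraMap_apply k R.carrier (ResidueField R.carrier), eq_comm, ← sub_eq_zero,
    show algebraMap R.carrier (ResidueField R.carrier) = residue R.carrier from rfl, ← map_sub, residue_eq_zero_iff,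
    CRing.mem_maximalIdeal_iff]
  rw [map_sub, AlgHom.commutes]
  simp

theorem residue_algebraMap_surjective : Function.Surjective (algebraMap k (ResidueField R.carrier)) := fun z => by
  obtain ⟨a, rfl⟩ := residue_surjective z
  exact ⟨R.res a, residue_res R a⟩

theorem finite_cotangent : Module.Finite k (CotangentSpace R.carrier) ∧
    Module.finrank k (CotangentSpace R.carrier) =
      Module.finrank (ResidueField R.carrier) (CotangentSpace R.carrier) := by
  have hbij : Function.Bijective (Algebra.linearMap k (ResidueField R.carrier)) :=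
    ⟨(algebraMap k (ResidueField R.carrier)).injective, residue_algebraMap_surjective R⟩
  haveI : IsScalarTower k (ResidueField R.carrier) (CotangentSpace R.carrier) :=
    IsScalarTower.of_algebraMap_smul fun c z => by
      rw [IsScalarTower.algebraMap_apply k R.carrier (ResidueField R.carrier), algebraMap_smul, algebraMap_smul]
  haveI : Module.Finite k (ResidueField R.carrier) := Module.Finite.equiv (LinearEquiv.ofBijective _ hbij)
  refine ⟨Module.Finite.trans (ResidueField R.carrier) _, ?_⟩
  rw [← Module.finrank_mul_finrank k (ResidueField R.carrier) (CotangentSpace R.carrier),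
    ← (LinearEquiv.ofBijective _ hbij).finrank_eq, Module.finrank_self, one_mul]

theorem exists_homSet_of_dual (l : Module.Dual k (CotangentSpace R.carrier)) :
    ∃ φ : HomSet R.carrier R.res (Art.dual k k), ∀ x : maximalIdeal R.carrier,
      TrivSqZeroExt.snd (show DualNumber k from φ.1 (x : R.carrier)) = l ((maximalIdeal R.carrier).toCotangent x) := by
  obtain ⟨φ, ⟨h1, h2⟩, -⟩ := GrothLib.ArtFun.existsUnique_algHom_dualNumber (residue_algebraMap_surjective R) l
  exact ⟨⟨φ, AlgHom.ext fun a => (algebraMap k (ResidueField R.carrier)).injective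
    ((h1 a).trans (residue_res R a).symm)⟩, h2⟩

/-- The hom to the dual numbers of a functional. -/
def dualHom (l : Module.Dual k (CotangentSpace R.carrier)) : HomSet R.carrier R.res (Art.dual k k) :=
  (exists_homSet_of_dual R l).choose

theorem dualHom_snd (l : Module.Dual k (CotangentSpace R.carrier)) (x : maximalIdeal R.carrier) :
    TrivSqZeroExt.snd (show DualNumber k from (dualHom R l).1 (x : R.carrier)) =
      l ((maximalIdeal R.carrier).toCotangent x) :=
  (exists_homSet_of_dual R l).choose_spec x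

theorem dualHom_fst (φ : HomSet R.carrier R.res (Art.dual k k)) (a : R.carrier) :
    TrivSqZeroExt.fst (show DualNumber k from φ.1 a) = R.res a := AlgHom.congr_fun φ.2 a

theorem homSet_dual_ext {φ ψ : HomSet R.carrier R.res (Art.dual k k)}
    (h : ∀ x : maximalIdeal R.carrier, TrivSqZeroExt.snd (show DualNumber k from φ.1 (x : R.carrier)) =
      TrivSqZeroExt.snd (show DualNumber k from ψ.1 (x : R.carrier))) : φ = ψ := by
  refine Subtype.ext (AlgHom.ext fun a => ?_)
  have hx : a - algebraMap k R.carrier (R.res a) ∈ maximalIdeal R.carrier := by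
    rw [CRing.mem_maximalIdeal_iff, map_sub, AlgHom.commutes]; simp
  have e := h ⟨_, hx⟩
  refine TrivSqZeroExt.ext ((dualHom_fst R φ a).trans (dualHom_fst R ψ a).symm) ?_
  have h0 : ∀ (χ : HomSet R.carrier R.res (Art.dual k k)),
      TrivSqZeroExt.snd (show DualNumber k from χ.1 (a - algebraMap k R.carrier (R.res a))) =
        TrivSqZeroExt.snd (show DualNumber k from χ.1 a) := fun χ => by
    rw [map_sub, AlgHom.commutes]
    exact sub_zero _
  exact (h0 φ).symm.trans (e.trans (h0 ψ))

theorem dualHom_surjective : Function.Surjective (dualHom R) := fun φ => by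
  let f : maximalIdeal R.carrier → k := fun x => TrivSqZeroExt.snd (show DualNumber k from φ.1 (x : R.carrier))
  have hf : ∀ x y, (maximalIdeal R.carrier).toCotangent x = (maximalIdeal R.carrier).toCotangent y → f x = f y := by
    intro x y e
    rw [Ideal.toCotangent_eq, pow_two] at e
    have : φ.1 ((x : R.carrier) - y) = 0 := by
      refine Submodule.mul_induction_on e (fun a ha b hb => ?_) fun a b ha hb => by rw [map_add, ha, hb, add_zero]
      rw [map_mul]
      refine tsze_mul_eq_zero (M := k) ?_ ?_
      · exact (dualHom_fst R φ a).trans ((CRing.mem_maximalIdeal_iff R a).1 ha)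
      · exact (dualHom_fst R φ b).trans ((CRing.mem_maximalIdeal_iff R b).1 hb)
    rw [map_sub, sub_eq_zero] at this
    exact congrArg TrivSqZeroExt.snd this
  let s := Function.surjInv (Ideal.toCotangent_surjective (maximalIdeal R.carrier))
  have hs : ∀ z, (maximalIdeal R.carrier).toCotangent (s z) = z := Function.surjInv_eq _
  let l : Module.Dual k (CotangentSpace R.carrier) :=
    { toFun := fun z => f (s z)
      map_add' := fun a b => by
        rw [hf _ (s a + s b) (by rw [map_add, hs, hs, hs])]
        show TrivSqZeroExt.snd (φ.1 ((s a : R.carrier) + (s b : R.carrier)) : DualNumber k) = _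
        rw [map_add]
        rfl
      map_smul' := fun c a => by
        rw [hf _ (c • s a) (by rw [LinearMap.map_smul_of_tower, hs, hs])]
        show TrivSqZeroExt.snd (φ.1 (c • (s a : R.carrier)) : DualNumber k) = c * _
        rw [map_smul]
        rfl }
  refine ⟨l, homSet_dual_ext R fun x => ?_⟩
  rw [dualHom_snd]
  exact hf _ _ (hs _)

theorem exists_homSet_dual2 (φ ψ : HomSet R.carrier R.res (Art.dual k k)) :
    ∃ χ : HomSet R.carrier R.res (Art.dual2 k k), HomSet.map Art.pr₁ χ = φ ∧ HomSet.map Art.pr₂ χ = ψ := by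
  obtain ⟨c, h1, h2⟩ := GrothLib.ArtFun.fp_exists_algHom (Art.isFibreProd_dual2 (Λ := k) (k := k)) φ.1 ψ.1
    (φ.2.trans ψ.2.symm)
  refine ⟨⟨c, ?_⟩, Subtype.ext h1, Subtype.ext h2⟩
  refine AlgHom.ext fun a => ?_
  exact ((Art.res_app Art.pr₁ (c a)).symm.trans (congrArg (Art.dual k k).res (AlgHom.congr_fun h1 a))).trans
    (AlgHom.congr_fun φ.2 a)

variable {R} (P) (ξ : Family R.carrier R.res (defFunctor (Λ := k) (Spec (CommRingCat.of B₀)) (Spec.map (CommRingCat.ofHom (algebraMap k B₀)))))

/-- The tangent map of a family. -/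
def tangentMap : Module.Dual k (CotangentSpace R.carrier) →ₗ[k] CotT.T1 P B₀ where
  toFun l := Td P (ξ.app _ (dualHom R l))
  map_add' l l' := by
    obtain ⟨χ, h1, h2⟩ := exists_homSet_dual2 R (dualHom R l) (dualHom R l')
    have h3 : HomSet.map Art.plus χ = dualHom R (l + l') := homSet_dual_ext R fun x => by
      rw [dualHom_snd, LinearMap.add_apply, ← dualHom_snd, ← dualHom_snd, ← h1, ← h2]
      rfl
    rw [← h3, ← h1, ← h2, ξ.natural, ξ.natural, ξ.natural, Td_add]
  map_smul' c l := by
    have h : HomSet.map (Art.scale c) (dualHom R l) = dualHom R (c • l) := homSet_dual_ext R fun x => by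
      rw [dualHom_snd, LinearMap.smul_apply, ← dualHom_snd]
      rfl
    rw [← h, ξ.natural, Td_scale, RingHom.id_apply]

theorem finrank_cotangent_eq (hξ : IsMiniversal ξ) :
    Module.finrank (ResidueField R.carrier) (CotangentSpace R.carrier) = Module.finrank k (CotT.T1 P B₀) := by
  have hinj : Function.Injective (dualHom R) := fun l l' e => by
    refine LinearMap.ext fun z => ?_
    obtain ⟨x, rfl⟩ := Ideal.toCotangent_surjective _ z
    rw [← dualHom_snd, ← dualHom_snd, e]
  have hbij : Function.Bijective (tangentMap P ξ) :=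
    (Td_bijective P).comp (hξ.2.comp ⟨hinj, dualHom_surjective R⟩)
  obtain ⟨hfin, hrk⟩ := finite_cotangent R
  rw [← hrk, ← Subspace.dual_finrank_eq, (LinearEquiv.ofBijective _ hbij).finrank_eq]

end Hull

theorem h0_defFunctor : H0 (DF) := by
  refine ⟨⟨(baseData (k := k) (B₀ := B₀)).toDefSch.cl⟩, ⟨fun u v => ?_⟩⟩
  induction u using Quotient.inductionOn with
  | h ξ =>
    induction v using Quotient.inductionOn with
    | h ξ' =>
      have hx : Flat x₀ := (HasRingHomProperty.Spec_iff (P := @Flat)).2
        (RingHom.flat_algebraMap_iff.2 inferInstance)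
      obtain ⟨a⟩ := nonempty_iso_self hx ξ
      obtain ⟨b⟩ := nonempty_iso_self hx ξ'
      exact Quotient.sound ⟨a.trans b.symm⟩

theorem smooth_iff_dim_eq (R : CRing k k) :
    IsSmoothFunctor (hR R.carrier R.res) ↔
      ringKrullDim R.carrier =
        (Module.finrank (ResidueField R.carrier) (CotangentSpace R.carrier) : WithBot ℕ∞) := by
  haveI := GrothLib.ArtFun.isAdicComplete_maximalIdeal_field (k := k)
  rw [GrothLib.ArtFun.isSmoothFunctor_iff_powerSeries (fun c => ⟨c, rfl⟩) R]
  constructor
  · rintro ⟨n, ⟨e⟩⟩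
    haveI : IsRegularLocalRing R.carrier := IsRegularLocalRing.of_ringEquiv e.symm.toRingEquiv
    rw [← IsRegularLocalRing.spanFinrank_maximalIdeal, spanFinrank_maximalIdeal_eq_finrank_cotangentSpace]
  · intro h
    obtain ⟨n, π, hπ, hker⟩ := GrothLib.ArtFun.exists_presentation_field R
    refine ⟨n, ⟨(AlgEquiv.ofBijective π ⟨(injective_iff_map_eq_zero π).2 fun f hf => ?_, hπ⟩).symm⟩⟩
    by_contra hne
    have hdd : Module.finrank (ResidueField R.carrier) (CotangentSpace R.carrier) =
        (maximalIdeal (MvPowerSeries (Fin n) k)).spanFinrank := by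
      rw [← spanFinrank_maximalIdeal_eq_finrank_cotangentSpace]
      exact (GrothLib.ArtFun.spanFinrank_maximalIdeal_eq_of_surjective π.toRingHom hπ hker).symm
    have hle : Ideal.span {f} ≤ RingHom.ker π := (Ideal.span_singleton_le_iff_mem _).2 hf
    have h1 : ringKrullDim R.carrier ≤ ringKrullDim (MvPowerSeries (Fin n) k ⧸ Ideal.span {f}) :=
      ringKrullDim_le_of_surjective (Ideal.Quotient.liftₐ _ π fun a ha => hle ha).toRingHom fun r => by
        obtain ⟨a, rfl⟩ := hπ r
        exact ⟨Ideal.Quotient.mk _ a, rfl⟩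
    have h2 := ringKrullDim_quotient_succ_le_of_nonZeroDivisor (mem_nonZeroDivisors_of_ne_zero hne)
    have h3 : ringKrullDim R.carrier + 1 ≤ ringKrullDim R.carrier := by
      refine ((add_le_add h1 le_rfl).trans h2).trans (le_of_eq ?_)
      rw [← IsRegularLocalRing.spanFinrank_maximalIdeal, ← hdd, h]
    rw [h, ← Nat.cast_one, ← Nat.cast_add] at h3
    exact absurd (Nat.cast_le.1 h3) (by omega)

end GrothLib.T2Obs26
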