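import Groth.Agent.Lib.T2Obs26.Psi

/-!
# The obstruction attached to lifted relations
-/

noncomputable section

universe u

open ArtFun ArtFun.Art MvPolynomial TensorProduct

namespace GrothLib.T2Obs26

variable {k : Type u} [Field k] {B₀ : Type u} [CommRing B₀] [Algebra k B₀] {ι σ : Type u}
  {P : Algebra.Presentation k B₀ ι σ} {C' A : ArtFun.Art k k}

/-- A presented deformation. -/
structure Frame (P : Algebra.Presentation k B₀ ι σ) (A : ArtFun.Art k k) : Type (u + 1) where
  D : GrothLib.AffDef.AffData A B₀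
  F : MvPolynomial ι A →ₐ[A] D.E
  r : σ → MvPolynomial ι A
  surj : Function.Surjective F
  hι : ∀ p, D.ι (F p) = aeval P.val (red ι A p)
  ker : RingHom.ker F = Ideal.span (Set.range r)
  hred : ∀ s, red ι A (r s) = P.relation s

theorem nonempty_frame (D : GrothLib.AffDef.AffData A B₀) : ∃ W : Frame P A, W.D = D := by
  obtain ⟨F, r, h1, h2, h3, h4⟩ := exists_presentation P D
  exact ⟨⟨D, F, r, h1, h2, h3, h4⟩, rfl⟩

/-- Coefficient change of vectors. -/
abbrev vmap (p : C' ⟶ A) (q : σ →₀ MvPolynomial ι C') : σ →₀ MvPolynomial ι A :=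
  q.mapRange (pm p) (map_zero _)

theorem pm_linearCombination (p : C' ⟶ A) (r' : σ → MvPolynomial ι C') (q : σ →₀ MvPolynomial ι C') :
    pm p (Finsupp.linearCombination _ r' q) =
      Finsupp.linearCombination _ (fun s => pm p (r' s)) (vmap p q) := by
  simp only [Finsupp.linearCombination_apply, smul_eq_mul]
  rw [Finsupp.sum_mapRange_index (by simp)]
  simp [Finsupp.sum, map_sum]

theorem redVec_vmap (p : C' ⟶ A) (q : σ →₀ MvPolynomial ι C') : redVec (vmap p q) = redVec q := by
  ext s : 1
  simp only [Finsupp.mapRange_apply]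
  exact red_pm p _

theorem redVec_smul (g : MvPolynomial ι A) (q : σ →₀ MvPolynomial ι A) :
    redVec (g • q) = red ι A g • redVec q := by
  ext s : 1
  simp

theorem vmap_smul (p : C' ⟶ A) (g : MvPolynomial ι C') (q : σ →₀ MvPolynomial ι C') :
    vmap p (g • q) = pm p g • vmap p q := by
  ext s : 1
  simp

namespace Frame

variable (W : Frame P A) (p : C' ⟶ A)

/-- Lifts of the relations. -/
def IsLift (r' : σ → MvPolynomial ι C') : Prop := ∀ s, pm p (r' s) = W.r s

theorem exists_isLift (hp : IsSemismallExt p) : ∃ r', W.IsLift p r' := by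
  choose r' h using fun s => pm_surjective (ι := ι) p hp (W.r s)
  exact ⟨r', h⟩

/-- A vector lifting a relation of the deformation. -/
def Rel' (q : σ →₀ MvPolynomial ι C') : Prop :=
  Finsupp.linearCombination (MvPolynomial ι A) W.r (vmap p q) = 0

variable {W p}

theorem rel'_iff {r' : σ → MvPolynomial ι C'} (h : W.IsLift p r') {q : σ →₀ MvPolynomial ι C'} :
    W.Rel' p q ↔ Finsupp.linearCombination _ r' q ∈ RingHom.ker (pm (ι := ι) p) := by
  rw [RingHom.mem_ker, pm_linearCombination, show (fun s => pm p (r' s)) = W.r from funext h]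
  exact Iff.rfl

theorem red_r' {r' : σ → MvPolynomial ι C'} (h : W.IsLift p r') (s : σ) : red ι C' (r' s) = P.relation s := by
  rw [← red_pm p, h, W.hred]

theorem rel'_smul {q : σ →₀ MvPolynomial ι C'} (hq : W.Rel' p q) (g : MvPolynomial ι C') : W.Rel' p (g • q) := by
  show Finsupp.linearCombination _ W.r (vmap p (g • q)) = 0
  rw [vmap_smul, map_smul, hq, smul_zero]

theorem rel'_add {q q' : σ →₀ MvPolynomial ι C'} (hq : W.Rel' p q) (hq' : W.Rel' p q') : W.Rel' p (q + q') := by
  show Finsupp.linearCombination _ W.r (vmap p (q + q')) = 0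
  rw [show vmap p (q + q') = vmap p q + vmap p q' from Finsupp.mapRange_add (map_add _) _ _, map_add, hq, hq', add_zero]

theorem rel'_sub {q q' : σ →₀ MvPolynomial ι C'} (hq : W.Rel' p q) (hq' : W.Rel' p q') : W.Rel' p (q - q') := by
  rw [sub_eq_add_neg, ← neg_one_smul (MvPolynomial ι C') q']
  exact rel'_add hq (rel'_smul hq' _)

variable (p) in
/-- The value of lifted relations on a vector. -/
def ev (r' : σ → MvPolynomial ι C') (q : σ →₀ MvPolynomial ι C') : B₀ ⊗[k] Jker p :=
  Ψ P p (Finsupp.linearCombination _ r' q)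

theorem ev_add (r' : σ → MvPolynomial ι C') (q q' : σ →₀ MvPolynomial ι C') :
    ev (P := P) p r' (q + q') = ev (P := P) p r' q + ev (P := P) p r' q' := by
  rw [ev, map_add, map_add]; rfl

theorem ev_sub (r' : σ → MvPolynomial ι C') (q q' : σ →₀ MvPolynomial ι C') :
    ev (P := P) p r' (q - q') = ev (P := P) p r' q - ev (P := P) p r' q' := by
  rw [ev, map_sub, map_sub]; rfl

variable (hp : IsSemismallExt p)
include hp

theorem ev_smul {r' : σ → MvPolynomial ι C'} (h : W.IsLift p r') {q : σ →₀ MvPolynomial ι C'} (hq : W.Rel' p q)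
    (g : MvPolynomial ι C') : ev (P := P) p r' (g • q) = aeval P.val (red ι C' g) • ev (P := P) p r' q := by
  rw [ev, map_smul, smul_eq_mul, Ψ_mul P p hp g ((rel'_iff h).1 hq)]
  rfl

theorem Ψ_linearCombination (z : σ → MvPolynomial ι C') (hz : ∀ s, z s ∈ RingHom.ker (pm (ι := ι) p))
    (q : σ →₀ MvPolynomial ι C') :
    Ψ P p (Finsupp.linearCombination _ z q) = q.sum fun s g => aeval P.val (red ι C' g) • Ψ P p (z s) := by
  simp only [Finsupp.linearCombination_apply, smul_eq_mul, Finsupp.sum, map_sum]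
  exact Finset.sum_congr rfl fun s _ => Ψ_mul P p hp _ (hz s)

theorem ev_eq_zero_of_vmap_eq_zero {r' : σ → MvPolynomial ι C'} (h : W.IsLift p r') {q : σ →₀ MvPolynomial ι C'}
    (hq : vmap p q = 0) : ev (P := P) p r' q = 0 := by
  have hmem : ∀ s, q s ∈ RingHom.ker (pm (ι := ι) p) := fun s => by
    simpa [RingHom.mem_ker] using DFunLike.congr_fun hq s
  simp only [ev, Finsupp.linearCombination_apply, smul_eq_mul, Finsupp.sum, map_sum]
  refine Finset.sum_eq_zero fun s _ => ?_
  rw [mul_comm, Ψ_mul P p hp _ (hmem s), red_r' h, aeval_relation, zero_smul]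

/-- The value only depends on the relation of the special fibre. -/
theorem ev_eq_zero {r' : σ → MvPolynomial ι C'} (h : W.IsLift p r') {q : σ →₀ MvPolynomial ι C'}
    (hq : W.Rel' p q) (h0 : redVec q = 0) : ev (P := P) p r' q = 0 := by
  have key := relation_mem_smul W.surj W.ker (vmap p q) ((redVec_vmap p q).trans h0) hq
  have hstep : ∀ y ∈ RingHom.ker A.res •
      (LinearMap.ker ((Finsupp.linearCombination (MvPolynomial ι A) W.r).restrictScalars A)),
      ∃ q'', vmap p q'' = y ∧ W.Rel' p q'' ∧ ev (P := P) p r' q'' = 0 := fun y hy => by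
    refine Submodule.smul_induction_on hy (fun c hc y hy => ?_) ?_
    · obtain ⟨c', rfl⟩ := hp.1 c
      obtain ⟨q₁, hq₁⟩ := Finsupp.mapRange_surjective (α := σ) (pm (ι := ι) p) (map_zero _) (pm_surjective p hp) y
      have hq₁' : W.Rel' p q₁ := by
        show Finsupp.linearCombination _ W.r (vmap p q₁) = 0
        rw [show vmap p q₁ = y from hq₁]
        exact LinearMap.mem_ker.1 hy
      refine ⟨MvPolynomial.C c' • q₁, ?_, rel'_smul hq₁' _, ?_⟩
      · rw [vmap_smul, show vmap p q₁ = y from hq₁, MvPolynomial.map_C]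
        ext s : 1
        rw [Finsupp.smul_apply, Finsupp.smul_apply, smul_eq_C_mul, smul_eq_mul]
        rfl
      · rw [ev_smul hp h hq₁', MvPolynomial.map_C,
          show C'.res.toRingHom c' = 0 from (Art.res_app p c').symm.trans hc, map_zero, map_zero, zero_smul]
    · rintro _ _ ⟨a, rfl, ha, ha'⟩ ⟨b, rfl, hb, hb'⟩
      exact ⟨a + b, Finsupp.mapRange_add (map_add _) _ _, rel'_add ha hb, by rw [ev_add, ha', hb', add_zero]⟩
  obtain ⟨q'', h1, h2, h3⟩ := hstep _ key
  have h4 : vmap p (q - q'') = 0 := by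
    rw [show vmap p (q - q'') = vmap p q - vmap p q'' from Finsupp.mapRange_sub (map_sub _) _ _, h1, sub_self]
  have := ev_eq_zero_of_vmap_eq_zero hp h h4
  rwa [ev_sub, h3, sub_zero] at this

theorem ev_congr {r' : σ → MvPolynomial ι C'} (h : W.IsLift p r') {q q' : σ →₀ MvPolynomial ι C'}
    (hq : W.Rel' p q) (hq' : W.Rel' p q') (e : redVec q = redVec q') :
    ev (P := P) p r' q = ev (P := P) p r' q' := by
  rw [← sub_eq_zero, ← ev_sub]
  refine ev_eq_zero hp h (rel'_sub hq hq') ?_
  rw [show redVec (q - q') = redVec q - redVec q' from Finsupp.mapRange_sub (map_sub _) _ _, e, sub_self]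

theorem exists_rel' {y : σ →₀ MvPolynomial ι k} (hy : Finsupp.linearCombination _ P.relation y = 0) :
    ∃ q, W.Rel' p q ∧ redVec q = y := by
  obtain ⟨q₁, hq₁, hq₁'⟩ := exists_lift_relation W.surj W.ker y
    (by rwa [show (fun s => red ι A (W.r s)) = P.relation from funext W.hred])
  obtain ⟨q, rfl⟩ := Finsupp.mapRange_surjective (α := σ) (pm (ι := ι) p) (map_zero _) (pm_surjective p hp) q₁
  exact ⟨q, hq₁', by rw [← redVec_vmap p]; exact hq₁⟩

theorem exists_ob {r' : σ → MvPolynomial ι C'} (h : W.IsLift p r') :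
    ∃ ob : CotT.L2 P →ₗ[B₀] B₀ ⊗[k] Jker p, ∀ (q : σ →₀ MvPolynomial ι C') (y : CotT.relKer P),
      W.Rel' p q → redVec q = (y : CotT.relMod P) →
      ob (Submodule.Quotient.mk (1 ⊗ₜ y)) = ev (P := P) p r' q := by
  classical
  have hy : ∀ y : CotT.relKer P, ∃ q, W.Rel' p q ∧ redVec q = (y : CotT.relMod P) := fun y =>
    exists_rel' hp (LinearMap.mem_ker.1 y.2)
  choose L hL hL' using hy
  let ev₀ : CotT.relKer P →ₗ[P.toExtension.Ring] B₀ ⊗[k] Jker p :=
    { toFun := fun y => ev (P := P) p r' (L y)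
      map_add' := fun a b => by
        rw [← ev_add]
        refine ev_congr hp h (hL _) (rel'_add (hL a) (hL b)) ?_
        rw [hL', show redVec (L a + L b) = redVec (L a) + redVec (L b) from Finsupp.mapRange_add (map_add _) _ _,
          hL', hL']
        rfl
      map_smul' := fun g a => by
        obtain ⟨g', hg'⟩ := red_surjective (A := C') (show MvPolynomial ι k from g)
        rw [RingHom.id_apply]
        conv_rhs => rw [← IsScalarTower.algebraMap_smul B₀ g, CotT.algebraMap_toExtension]
        have e := ev_smul hp h (hL a) g'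
        rw [hg'] at e
        refine (ev_congr hp h (hL _) (rel'_smul (hL a) g') ?_).trans e
        rw [hL', redVec_smul, hg', hL']
        rfl }
  let G : B₀ ⊗[P.toExtension.Ring] CotT.relKer P →ₗ[B₀] B₀ ⊗[k] Jker p := LinearMap.liftBaseChange B₀ ev₀
  have htriv : ∀ y ∈ CotT.trivRel P, ∃ q : σ →₀ MvPolynomial ι C',
      redVec q = y ∧ Finsupp.linearCombination _ r' q = 0 := fun y hy => by
    induction hy using Submodule.span_induction with
    | mem y hy =>
      obtain ⟨a, b, rfl⟩ := hy
      obtain ⟨a', ha'⟩ := redVec_surjective (A := C') (show σ →₀ MvPolynomial ι k from a)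
      obtain ⟨b', hb'⟩ := redVec_surjective (A := C') (show σ →₀ MvPolynomial ι k from b)
      refine ⟨Finsupp.linearCombination _ r' a' • b' - Finsupp.linearCombination _ r' b' • a', ?_, ?_⟩
      · rw [show redVec (Finsupp.linearCombination _ r' a' • b' - Finsupp.linearCombination _ r' b' • a') =
          redVec (Finsupp.linearCombination _ r' a' • b') - redVec (Finsupp.linearCombination _ r' b' • a') from
          Finsupp.mapRange_sub (map_sub _) _ _, redVec_smul, redVec_smul, red_linearCombination,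
          red_linearCombination, show (fun s => red ι C' (r' s)) = P.relation from funext (red_r' h), ha', hb']
        rfl
      · rw [map_sub, map_smul, map_smul, smul_eq_mul, smul_eq_mul, mul_comm, sub_self]
    | zero => exact ⟨0, Finsupp.mapRange_zero, map_zero _⟩
    | add y z _ _ hy hz =>
      obtain ⟨a, ha, ha'⟩ := hy
      obtain ⟨b, hb, hb'⟩ := hz
      exact ⟨a + b, by rw [← ha, ← hb]; exact Finsupp.mapRange_add (map_add _) _ _, by rw [map_add, ha', hb', add_zero]⟩
    | smul g y _ hy =>
      obtain ⟨a, ha, ha'⟩ := hy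
      obtain ⟨g', hg'⟩ := red_surjective (A := C') (show MvPolynomial ι k from g)
      exact ⟨g' • a, by rw [redVec_smul, hg', ha]; rfl, by rw [map_smul, ha', smul_zero]⟩
  have hle : LinearMap.range ((CotT.trivRelKer P).subtype.baseChange B₀) ≤ LinearMap.ker G := by
    rw [LinearMap.range_le_ker_iff]
    refine TensorProduct.AlgebraTensorModule.ext fun b y => ?_
    show G (b ⊗ₜ (y : CotT.relKer P)) = 0
    obtain ⟨q, hq, hq0⟩ := htriv _ (show ((y : CotT.relKer P) : CotT.relMod P) ∈ CotT.trivRel P from y.2)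
    have e : ev₀ (y : CotT.relKer P) = 0 := by
      refine (ev_congr hp h (hL _) ((rel'_iff h).2 ?_) ((hL' _).trans hq.symm)).trans ?_
      · rw [hq0]; exact zero_mem _
      · rw [ev, hq0, map_zero]
    show b • ev₀ _ = 0
    rw [e, smul_zero]
  refine ⟨Submodule.liftQ _ G hle, fun q y hq hy => ?_⟩
  show G (1 ⊗ₜ y) = _
  rw [LinearMap.liftBaseChange_tmul, one_smul]
  exact ev_congr hp h (hL y) hq ((hL' y).trans hy.symm)

omit hp in
theorem one_tmul_eq (f : CotT.relMod P) :
    ((1 : B₀) ⊗ₜ[P.toExtension.Ring] f : CotT.L1 P) =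
      f.sum fun s g => aeval P.val g • CotT.L1basis P s := by
  conv_lhs => rw [← f.sum_single]
  rw [Finsupp.sum, TensorProduct.tmul_sum]
  refine Finset.sum_congr rfl fun s _ => ?_
  show _ = aeval P.val (show MvPolynomial ι k from f s) • CotT.L1basis P s
  rw [CotT.L1basis_apply, ← CotT.algebraMap_toExtension, IsScalarTower.algebraMap_smul B₀ (f s),
    ← TensorProduct.tmul_smul, Finsupp.smul_single, smul_eq_mul]
  exact congrArg _ (congrArg (Finsupp.single s) (mul_one (f s)).symm)

/-- Changing the lift of the relations changes the obstruction by a coboundary. -/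
theorem ev_add_change {r' r'' : σ → MvPolynomial ι C'} (h : W.IsLift p r') (h' : W.IsLift p r'')
    (φ : CotT.L1 P →ₗ[B₀] B₀ ⊗[k] Jker p) (hφ : ∀ s, φ (CotT.L1basis P s) = Ψ P p (r'' s - r' s))
    (q : σ →₀ MvPolynomial ι C') :
    ev (P := P) p r'' q = ev (P := P) p r' q + φ ((1 : B₀) ⊗ₜ (redVec q : CotT.relMod P)) := by
  have hz : ∀ s, r'' s - r' s ∈ RingHom.ker (pm (ι := ι) p) := fun s => by
    rw [RingHom.mem_ker, map_sub, h, h', sub_self]
  have e : Finsupp.linearCombination (MvPolynomial ι C') r'' q =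
      Finsupp.linearCombination _ r' q + Finsupp.linearCombination _ (fun s => r'' s - r' s) q := by
    simp only [Finsupp.linearCombination_apply, Finsupp.sum, ← Finset.sum_add_distrib, smul_eq_mul]
    exact Finset.sum_congr rfl fun s _ => by ring
  rw [ev, ev, e, map_add, Ψ_linearCombination hp _ hz, one_tmul_eq, map_finsuppSum]
  congr 1
  refine Eq.trans ?_ (Finsupp.sum_mapRange_index (fun s => by rw [map_smul]; exact (congrArg (fun t => t • φ _) (map_zero (aeval P.val))).trans (zero_smul B₀ _))).symm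
  refine Finsupp.sum_congr fun s _ => ?_
  rw [map_smul, hφ]

end Frame

end GrothLib.T2Obs26
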