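import Groth.Agent.Lib.T2Obs26.Ev

/-!
# Vanishing of the obstruction and lifts
-/

noncomputable section

universe u

open ArtFun ArtFun.Art MvPolynomial TensorProduct GrothLib.AffDef

namespace GrothLib.T2Obs26

attribute [local instance] Exal.opModule Exal.isCentralScalar_opModule

variable {k : Type u} [Field k] {B₀ : Type u} [CommRing B₀] [Algebra k B₀] {ι σ : Type u}
  {P : Algebra.Presentation k B₀ ι σ} {C' A : ArtFun.Art k k}

namespace Frame

variable (W : Frame P A) {p : C' ⟶ A} (hp : IsSemismallExt p)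

theorem aeval_eq_F_pm (x : MvPolynomial ι C') :
    letI := algR p W.D
    MvPolynomial.aeval (R := C') (fun i => W.F (MvPolynomial.X i)) x = W.F (pm p x) := by
  letI := algR p W.D
  refine RingHom.congr_fun (show (MvPolynomial.aeval (R := C') fun i => W.F (MvPolynomial.X i)).toRingHom =
    W.F.toRingHom.comp (pm p) from MvPolynomial.ringHom_ext (fun c => ?_) fun i => ?_) x
  · show MvPolynomial.aeval _ (MvPolynomial.C c) = W.F (pm p (MvPolynomial.C c))
    rw [MvPolynomial.aeval_C, MvPolynomial.map_C, MvPolynomial.C_eq_smul_one, map_smul, map_one,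
      ← Algebra.algebraMap_eq_smul_one]
    rfl
  · simp

include hp

/-- Lifted relations with zero value give a flat lift. -/
theorem exists_lift {r' : σ → MvPolynomial ι C'} (h : W.IsLift p r')
    (h0 : ∀ q, W.Rel' p q → ev (P := P) p r' q = 0) :
    letI := algR p W.D
    Nonempty (Lift C' (RingHom.ker p.toAlgHom) W.D.E) := by
  classical
  letI := algR p W.D
  letI : Algebra W.D.E B₀ := W.D.ι.toAlgebra
  have S := GrothLib.AffDef.setting p (D := W.D) hp
  let Kz : Ideal (MvPolynomial ι C') :=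
    { carrier := {x | x ∈ RingHom.ker (pm (ι := ι) p) ∧ Ψ P p x = 0}
      add_mem' := fun ha hb => ⟨add_mem ha.1 hb.1, by rw [map_add, ha.2, hb.2, add_zero]⟩
      zero_mem' := ⟨zero_mem _, map_zero _⟩
      smul_mem' := fun g x hx => ⟨Ideal.mul_mem_left _ _ hx.1, by
        rw [smul_eq_mul, Ψ_mul P p hp g hx.1, hx.2, smul_zero]⟩ }
  let I := Ideal.span (Set.range r') ⊔ Kz
  let π₀ : MvPolynomial ι C' →ₐ[C'] W.D.E := MvPolynomial.aeval fun i => W.F (MvPolynomial.X i)
  have hπ₀ : ∀ x, π₀ x = W.F (pm p x) := W.aeval_eq_F_pm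
  have hI : I ≤ RingHom.ker π₀ := sup_le
    (Ideal.span_le.2 (Set.range_subset_iff.2 fun s => by
      rw [SetLike.mem_coe, RingHom.mem_ker, hπ₀, h s]
      exact RingHom.mem_ker.1 (W.ker ▸ Ideal.subset_span ⟨s, rfl⟩)))
    fun x hx => by rw [RingHom.mem_ker, hπ₀, RingHom.mem_ker.1 hx.1, map_zero]
  let E := MvPolynomial ι C' ⧸ I
  let π : E →ₐ[C'] W.D.E := Ideal.Quotient.liftₐ I π₀ fun a ha => RingHom.mem_ker.1 (hI ha)
  have hπ : ∀ x, π (Ideal.Quotient.mk I x) = W.F (pm p x) := hπ₀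
  have hπsurj : Function.Surjective π := fun z => by
    obtain ⟨y, rfl⟩ := W.surj z
    obtain ⟨x, rfl⟩ := pm_surjective p hp y
    exact ⟨Ideal.Quotient.mk I x, hπ x⟩
  have hinter : ∀ x ∈ I, x ∈ RingHom.ker (pm (ι := ι) p) → Ψ P p x = 0 := fun x hx hxp => by
    obtain ⟨b, hb, w, hw, rfl⟩ := Submodule.mem_sup.1 hx
    obtain ⟨q, rfl⟩ := (Finsupp.mem_span_range_iff_exists_finsupp).1 hb
    have hq : Finsupp.linearCombination (MvPolynomial ι C') r' q ∈ RingHom.ker (pm (ι := ι) p) := by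
      rw [Finsupp.linearCombination_apply]
      exact (Submodule.add_mem_iff_left _ hw.1).1 hxp
    have := h0 q ((rel'_iff h).2 hq)
    rw [ev, Finsupp.linearCombination_apply] at this
    rw [map_add, this, hw.2, add_zero]
  have hdef : ∀ x ∈ RingHom.ker (pm (ι := ι) p), ∀ y ∈ RingHom.ker (pm (ι := ι) p), Ψ P p x = Ψ P p y →
      Ideal.Quotient.mk I x = Ideal.Quotient.mk I y := fun x hx y hy e => by
    rw [Ideal.Quotient.eq]
    exact Ideal.mem_sup_right ⟨sub_mem hx hy, by rw [map_sub, e, sub_self]⟩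
  choose sec hsec hsec' using Ψ_surjective (ι := ι) P p hp
  let θ : B₀ ⊗[k] Jker p →+ E := AddMonoidHom.mk' (fun z => Ideal.Quotient.mk I (sec z)) fun a b => by
    rw [← map_add]
    exact hdef _ (hsec _) _ (add_mem (hsec a) (hsec b)) (by rw [hsec', map_add, hsec', hsec'])
  have hθ : ∀ x ∈ RingHom.ker (pm (ι := ι) p), θ (Ψ P p x) = Ideal.Quotient.mk I x := fun x hx =>
    hdef _ (hsec _) _ hx (hsec' _)
  have hext : Exal.IsExtension π θ := by
    refine ⟨hπsurj, ?_, fun y => ?_, fun y z => ?_⟩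
    · intro a b e
      have h1 := hinter _ (Ideal.Quotient.eq.1 e) (sub_mem (hsec a) (hsec b))
      rwa [map_sub, hsec', hsec', sub_eq_zero] at h1
    · obtain ⟨x, rfl⟩ := Ideal.Quotient.mk_surjective y
      rw [hπ]
      constructor
      · intro hx
        have hx' : pm p x ∈ (Ideal.span (Set.range r')).map (pm p) := by
          rw [Ideal.map_span, ← Set.range_comp, show pm p ∘ r' = W.r from funext h, ← W.ker]
          exact RingHom.mem_ker.2 hx
        obtain ⟨b, hb, hbx⟩ := (Ideal.mem_map_iff_of_surjective _ (pm_surjective p hp)).1 hx'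
        have hxb : x - b ∈ RingHom.ker (pm (ι := ι) p) := by rw [RingHom.mem_ker, map_sub, hbx, sub_self]
        refine ⟨Ψ P p (x - b), (hθ _ hxb).trans ?_⟩
        rw [Ideal.Quotient.eq, sub_sub_cancel_left, neg_mem_iff]
        exact Ideal.mem_sup_left hb
      · rintro ⟨z, hz⟩
        rw [← hπ, ← hz]
        show π (Ideal.Quotient.mk I (sec z)) = 0
        rw [hπ, RingHom.mem_ker.1 (hsec z), map_zero]
    · obtain ⟨x, rfl⟩ := Ideal.Quotient.mk_surjective y
      show Ideal.Quotient.mk I x * Ideal.Quotient.mk I (sec z) = θ (π (Ideal.Quotient.mk I x) • z)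
      rw [← map_mul, hπ, ← hθ _ (Ideal.mul_mem_left _ x (hsec z)), Ψ_mul P p hp x (hsec z), hsec',
        ← IsScalarTower.algebraMap_smul B₀ (W.F (pm p x)),
        show algebraMap W.D.E B₀ (W.F (pm p x)) = W.D.ι (W.F (pm p x)) from rfl, W.hι, red_pm]
  let X : Exal.Ext C' W.D.E (B₀ ⊗[k] Jker p) :=
    { E := E, proj := π, incl := θ, isExtension := hext }
  have hX : ∀ j : Jker p, X.incl (1 ⊗ₜ j) = algebraMap C' X.E (j : C') := fun j => by
    have hj : MvPolynomial.C (j : C') * (1 : MvPolynomial ι C') ∈ RingHom.ker (pm (ι := ι) p) := by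
      rw [mul_one]; exact (mem_ker_pm p).2 (Ideal.mem_map_of_mem _ j.2)
    have := hθ _ hj
    rw [Ψ_C_mul P p hp, map_one, map_one, mul_one] at this
    exact this
  obtain ⟨hflat, hker, -⟩ := exists_lift_of_ext S X hX
  exact ⟨⟨E, hflat, π, hπsurj, hker⟩⟩

/-- A flat lift gives lifted relations with zero value. -/
theorem exists_isLift_of_lift :
    letI := algR p W.D
    Lift C' (RingHom.ker p.toAlgHom) W.D.E →
      ∃ r', W.IsLift p r' ∧ ∀ q, W.Rel' p q → ev (P := P) p r' q = 0 := by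
  classical
  letI := algR p W.D
  letI : Algebra W.D.E B₀ := W.D.ι.toAlgebra
  intro L
  have S := GrothLib.AffDef.setting p (D := W.D) hp
  obtain ⟨θ, hext, hθ⟩ := exists_ext S L
  choose l hl using fun i => L.surj (W.F (MvPolynomial.X i))
  let G : MvPolynomial ι C' →ₐ[C'] L.E := MvPolynomial.aeval l
  have hG : ∀ x, L.π (G x) = W.F (pm p x) := fun x => by
    rw [← W.aeval_eq_F_pm]
    refine AlgHom.congr_fun (show L.π.comp G = MvPolynomial.aeval (R := C') (fun i => W.F (MvPolynomial.X i)) from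
      MvPolynomial.algHom_ext fun i => ?_) x
    simp [G, hl]
  have hΨ : ∀ x ∈ RingHom.ker (pm (ι := ι) p), θ (Ψ P p x) = G x := fun x hx => by
    suffices h : ∀ g, θ (Ψ P p (g * x)) = G (g * x) by simpa using h 1
    rw [mem_ker_pm] at hx
    induction hx using Submodule.span_induction with
    | mem x hx =>
      obtain ⟨c, hc, rfl⟩ := hx
      intro g
      rw [mul_comm g, Ψ_C_mul P p hp ⟨c, hc⟩, map_mul, MvPolynomial.aeval_C,
        show aeval P.val (red ι C' g) = algebraMap W.D.E B₀ (L.π (G g)) by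
          rw [hG, show algebraMap W.D.E B₀ (W.F (pm p g)) = W.D.ι (W.F (pm p g)) from rfl, W.hι, red_pm], hθ]
    | zero => intro g; simp
    | add x y _ _ hx hy => intro g; rw [mul_add, map_add, map_add, hx, hy, map_add]
    | smul a x _ hx => intro g; rw [smul_eq_mul, ← mul_assoc]; exact hx _
  have hr : ∀ s, ∃ x, pm p x = W.r s ∧ G x = 0 := fun s => by
    obtain ⟨x₀, hx₀⟩ := pm_surjective p hp (W.r s)
    have h1 : G x₀ ∈ RingHom.ker L.π := by
      rw [RingHom.mem_ker, hG, hx₀]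
      exact RingHom.mem_ker.1 (W.ker ▸ Ideal.subset_span ⟨s, rfl⟩)
    obtain ⟨z, hz⟩ := (hext.exact _).1 (RingHom.mem_ker.1 h1)
    obtain ⟨x₁, hx₁, rfl⟩ := Ψ_surjective (ι := ι) P p hp z
    rw [hΨ x₁ hx₁] at hz
    exact ⟨x₀ - x₁, by rw [map_sub, RingHom.mem_ker.1 hx₁, sub_zero, hx₀], by rw [map_sub, hz, sub_self]⟩
  choose r' hr' hr0 using hr
  refine ⟨r', hr', fun q hq => hext.incl_injective ?_⟩
  rw [ev, hΨ _ ((rel'_iff hr').1 hq), map_zero, Finsupp.linearCombination_apply, Finsupp.sum, map_sum]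
  exact Finset.sum_eq_zero fun s _ => by rw [smul_eq_mul, map_mul, hr0, mul_zero]

end Frame

end GrothLib.T2Obs26
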