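import Groth.Agent.Lib.T2Obs26.Relations
import Groth.Agent.Lib.ArtFun.SmallExt
import Mathlib

/-!
# The value of a polynomial in the kernel of a semismall extension
-/

noncomputable section

universe u

open ArtFun ArtFun.Art MvPolynomial TensorProduct

namespace GrothLib.T2Obs26

variable {k : Type u} [Field k] {B₀ : Type u} [CommRing B₀] [Algebra k B₀] {ι σ : Type u}
  (P : Algebra.Presentation k B₀ ι σ) {C' A : ArtFun.Art k k} (p : C' ⟶ A)

/-- The kernel of a morphism. -/
abbrev Jker : Ideal C' := RingHom.ker p.toAlgHom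

/-- Coefficient change along a morphism. -/
abbrev pm : MvPolynomial ι C' →+* MvPolynomial ι A := MvPolynomial.map p.toAlgHom.toRingHom

theorem red_pm (x : MvPolynomial ι C') : red ι A (pm p x) = red ι C' x := by
  show MvPolynomial.map _ (MvPolynomial.map _ x) = _
  rw [MvPolynomial.map_map]
  congr 2
  exact RingHom.ext fun c => Art.res_app p c

theorem pm_surjective (hp : IsSemismallExt p) : Function.Surjective (pm (ι := ι) p) :=
  MvPolynomial.map_surjective _ hp.1

theorem mem_ker_pm {x : MvPolynomial ι C'} :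
    x ∈ RingHom.ker (pm (ι := ι) p) ↔ x ∈ (Jker p).map (C : C' →+* MvPolynomial ι C') := by
  rw [MvPolynomial.ker_map]; rfl

theorem exists_proj : ∃ π : C' →ₗ[k] Jker p, ∀ j : Jker p, π j = j := by
  let f : Jker p →ₗ[k] C' :=
    { toFun := fun j => (j : C')
      map_add' := fun _ _ => rfl
      map_smul' := fun _ _ => rfl }
  obtain ⟨π, hπ⟩ := f.exists_leftInverse_of_injective (LinearMap.ker_eq_bot.2 Subtype.val_injective)
  exact ⟨π, fun j => LinearMap.congr_fun hπ j⟩

/-- A projection to the kernel. -/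
def proj : C' →ₗ[k] Jker p := (exists_proj p).choose

theorem proj_coe (j : Jker p) : proj p j = j := (exists_proj p).choose_spec j

/-- The value of a polynomial in the kernel. -/
def Ψ : MvPolynomial ι C' →ₗ[k] B₀ ⊗[k] Jker p :=
  Finsupp.lsum k (fun d : ι →₀ ℕ =>
      (TensorProduct.mk k B₀ (Jker p) (aeval P.val (monomial d (1 : k)))).comp (proj p)) ∘ₗ
    ((basisMonomials ι C').repr.toLinearMap.restrictScalars k)

theorem Ψ_monomial (d : ι →₀ ℕ) (c : C') :
    Ψ P p (monomial d c) = aeval P.val (monomial d (1 : k)) ⊗ₜ proj p c := by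
  show Finsupp.lsum k _ ((basisMonomials ι C').repr (monomial d c)) = _
  rw [show (basisMonomials ι C').repr (monomial d c) = Finsupp.single d c from rfl, Finsupp.lsum_single]
  rfl

theorem mul_kernel_eq (hp : IsSemismallExt p) (c : C') (j : Jker p) :
    (⟨(j : C') * c, Ideal.mul_mem_right _ _ j.2⟩ : Jker p) = C'.res c • j := by
  refine Subtype.ext ?_
  show (j : C') * c = C'.res c • (j : C')
  have h : (c - algebraMap k C' (C'.res c)) * (j : C') ∈ IsLocalRing.maximalIdeal C' * Jker p :=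
    Ideal.mul_mem_mul (by rw [Art.mem_maximalIdeal_iff, map_sub, AlgHom.commutes]; simp) j.2
  rw [hp.2, Ideal.mem_bot, sub_mul, sub_eq_zero] at h
  rw [mul_comm, h, Algebra.smul_def]

theorem Ψ_C_mul (hp : IsSemismallExt p) (j : Jker p) (g : MvPolynomial ι C') :
    Ψ P p (C (j : C') * g) = aeval P.val (red ι C' g) ⊗ₜ j := by
  induction g using MvPolynomial.induction_on' with
  | monomial d c =>
    rw [C_mul_monomial, Ψ_monomial, MvPolynomial.map_monomial,
      show (j : C') * c = ((⟨(j : C') * c, Ideal.mul_mem_right _ _ j.2⟩ : Jker p) : C') from rfl, proj_coe,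
      mul_kernel_eq p hp, tmul_smul, smul_tmul']
    congr 1
    rw [← map_smul, smul_monomial, smul_eq_mul, mul_one]
    rfl
  | add a b ha hb => rw [mul_add, map_add, ha, hb, map_add, map_add, add_tmul]

theorem Ψ_mul (hp : IsSemismallExt p) (g : MvPolynomial ι C') {x : MvPolynomial ι C'}
    (hx : x ∈ RingHom.ker (pm (ι := ι) p)) :
    Ψ P p (g * x) = aeval P.val (red ι C' g) • Ψ P p x := by
  rw [mem_ker_pm] at hx
  induction hx using Submodule.span_induction generalizing g with
  | mem x hx =>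
    obtain ⟨c, hc, rfl⟩ := hx
    rw [mul_comm g, Ψ_C_mul P p hp ⟨c, hc⟩, show C c = C c * (1 : MvPolynomial ι C') from (mul_one _).symm,
      Ψ_C_mul P p hp ⟨c, hc⟩, map_one, map_one, smul_tmul', smul_eq_mul, mul_one]
  | zero => simp
  | add x y _ _ hx hy => rw [mul_add, map_add, map_add, hx, hy, smul_add]
  | smul a x _ hx =>
    rw [smul_eq_mul, ← mul_assoc, hx, hx a, map_mul, map_mul, mul_smul]

theorem Ψ_surjective (hp : IsSemismallExt p) (z : B₀ ⊗[k] Jker p) :
    ∃ x ∈ RingHom.ker (pm (ι := ι) p), Ψ P p x = z := by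
  induction z using TensorProduct.induction_on with
  | zero => exact ⟨0, zero_mem _, map_zero _⟩
  | add a b ha hb =>
    obtain ⟨x, hx, rfl⟩ := ha
    obtain ⟨y, hy, rfl⟩ := hb
    exact ⟨x + y, add_mem hx hy, map_add _ _ _⟩
  | tmul b j =>
    obtain ⟨g, hg⟩ := red_surjective (A := C') (P.σ b)
    refine ⟨C (j : C') * g, Ideal.mul_mem_right _ _ ((mem_ker_pm p).2 (Ideal.mem_map_of_mem _ j.2)), ?_⟩
    rw [Ψ_C_mul P p hp, hg, P.aeval_val_σ]

theorem Ψ_map {C'' : ArtFun.Art k k} {q : C'' ⟶ A} (hp : IsSemismallExt p) (hq : IsSemismallExt q)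
    (f : C' ⟶ C'') (fJ : Jker p →ₗ[k] Jker q) (hfJ : ∀ j : Jker p, (fJ j : C'') = f j)
    {x : MvPolynomial ι C'} (hx : x ∈ RingHom.ker (pm (ι := ι) p)) :
    Ψ P q (MvPolynomial.map f.toAlgHom.toRingHom x) = LinearMap.lTensor B₀ fJ (Ψ P p x) := by
  suffices h : ∀ g, Ψ P q (MvPolynomial.map f.toAlgHom.toRingHom (g * x)) =
      LinearMap.lTensor B₀ fJ (Ψ P p (g * x)) by simpa using h 1
  rw [mem_ker_pm] at hx
  induction hx using Submodule.span_induction with
  | mem x hx =>
    obtain ⟨c, hc, rfl⟩ := hx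
    intro g
    rw [mul_comm g, map_mul, MvPolynomial.map_C,
      show f.toAlgHom.toRingHom c = ((fJ ⟨c, hc⟩ : Jker q) : C'') from (hfJ ⟨c, hc⟩).symm,
      Ψ_C_mul P q hq, Ψ_C_mul P p hp ⟨c, hc⟩, LinearMap.lTensor_tmul]
    congr 2
    rw [MvPolynomial.map_map]
    congr 2
    exact RingHom.ext fun c => Art.res_app f c
  | zero => intro g; simp
  | add x y _ _ hx hy => intro g; rw [mul_add, map_add, map_add, hx, hy, map_add, map_add]
  | smul a x _ hx => intro g; rw [smul_eq_mul, ← mul_assoc]; exact hx _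

end GrothLib.T2Obs26
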