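import Groth.Agent.Lib.AffDef26.Scheme
import Groth.Agent.Lib.DefLift26.Basic
import Groth.Agent.Lib.BlowUp.FlatSub
import Groth.Agent.Lib.Flatness.InjMod
import Groth.Prelude.Def_CotT
import Mathlib

/-!
# Relations of a flat deformation of a presented algebra lift
-/

noncomputable section

universe u

open ArtFun ArtFun.Art MvPolynomial TensorProduct

namespace GrothLib.T2Obs26

variable {k : Type u} [Field k] {B₀ : Type u} [CommRing B₀] [Algebra k B₀] {ι σ : Type u}
  (P : Algebra.Presentation k B₀ ι σ)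

variable (ι) in
/-- Reduction of coefficients to the residue field. -/
abbrev red (A : ArtFun.Art k k) : MvPolynomial ι A →+* MvPolynomial ι k := MvPolynomial.map A.res.toRingHom

variable {A : ArtFun.Art k k}

theorem isNilpotent_ker_res (A : ArtFun.Art k k) : IsNilpotent (RingHom.ker A.res) := by
  rw [show RingHom.ker A.res = IsLocalRing.maximalIdeal A from
    Ideal.ext fun c => (Art.mem_maximalIdeal_iff A c).symm]
  exact IsLocalRing.jacobson_eq_maximalIdeal (R := A) ⊥ bot_ne_top ▸ IsArtinianRing.isNilpotent_jacobson_bot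

theorem red_eq_zero_iff (p : MvPolynomial ι A) :
    red ι A p = 0 ↔ p ∈ (RingHom.ker A.res).map (algebraMap A (MvPolynomial ι A)) := by
  rw [← RingHom.mem_ker, MvPolynomial.ker_map]
  rfl

theorem red_surjective : Function.Surjective (red ι A) := MvPolynomial.map_surjective _ A.res_surjective

theorem aeval_relation (s : σ) : aeval P.val (P.relation s) = 0 := by
  have := P.relation_mem_ker s
  rwa [Algebra.Generators.ker_eq_ker_aeval_val, RingHom.mem_ker] at this

/-- A presentation lifts to a flat deformation. -/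
theorem exists_presentation (D : GrothLib.AffDef.AffData A B₀) :
    ∃ (F : MvPolynomial ι A →ₐ[A] D.E) (r : σ → MvPolynomial ι A), Function.Surjective F ∧
      (∀ p, D.ι (F p) = aeval P.val (red ι A p)) ∧ RingHom.ker F = Ideal.span (Set.range r) ∧
      ∀ s, red ι A (r s) = P.relation s := by
  classical
  choose y hy using fun i => D.surj (P.val i)
  let F : MvPolynomial ι A →ₐ[A] D.E := aeval y
  have hF : ∀ p, D.ι (F p) = aeval P.val (red ι A p) := fun p =>
    RingHom.congr_fun (show D.ι.comp F.toRingHom = (aeval P.val).toRingHom.comp (red ι A) from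
      MvPolynomial.ringHom_ext (fun a => by simp [F, D.comm]) fun i => by simp [F, hy]) p
  let I := (RingHom.ker A.res).map (algebraMap A D.E)
  let I₀ := (RingHom.ker A.res).map (algebraMap A (MvPolynomial ι A))
  have hII : I₀.map F.toRingHom = I := by
    rw [Ideal.map_map, AlgHom.toRingHom_eq_coe, AlgHom.comp_algebraMap]
  have hval : ∀ b : B₀, ∃ p : MvPolynomial ι A, aeval P.val (red ι A p) = b := fun b => by
    obtain ⟨p, hp⟩ := red_surjective (A := A) (P.σ b)
    exact ⟨p, by rw [hp]; exact P.aeval_val_σ b⟩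
  have hmod : ∀ z, ∃ p, z - F p ∈ I := fun z => by
    obtain ⟨p, hp⟩ := hval (D.ι z)
    refine ⟨p, ?_⟩
    show z - F p ∈ (RingHom.ker A.res).map (algebraMap A D.E)
    rw [← D.ker, RingHom.mem_ker, map_sub, hF, hp, sub_self]
  have hstep : ∀ j, ∀ z ∈ I ^ j, ∃ p ∈ I₀ ^ j, z - F p ∈ I ^ (j + 1) := fun j z hz => by
    rw [← hII, ← Ideal.map_pow] at hz
    induction hz using Submodule.span_induction with
    | mem x hx =>
      obtain ⟨p, hp, rfl⟩ := hx
      exact ⟨p, hp, by simp⟩
    | zero => exact ⟨0, zero_mem _, by simp⟩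
    | add x x' _ _ hx hx' =>
      obtain ⟨p, hp, h⟩ := hx
      obtain ⟨p', hp', h'⟩ := hx'
      refine ⟨p + p', add_mem hp hp', ?_⟩
      rw [map_add, show x + x' - (F p + F p') = (x - F p) + (x' - F p') by ring]
      exact add_mem h h'
    | smul a x _ hx =>
      obtain ⟨p, hp, h⟩ := hx
      obtain ⟨q, hq⟩ := hmod a
      refine ⟨q * p, Ideal.mul_mem_left _ _ hp, ?_⟩
      rw [smul_eq_mul, map_mul, show a * x - F q * F p = a * (x - F p) + (a - F q) * F p by ring]
      refine add_mem (Ideal.mul_mem_left _ _ h) ?_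
      rw [pow_succ']
      refine Ideal.mul_mem_mul hq ?_
      rw [← hII, ← Ideal.map_pow]
      exact Ideal.mem_map_of_mem _ hp
  have hsurj : Function.Surjective F := fun z => by
    obtain ⟨n, hn⟩ := isNilpotent_ker_res A
    have h : ∀ j, ∃ p, z - F p ∈ I ^ j := fun j => by
      induction j with
      | zero => exact ⟨0, by simp⟩
      | succ j ih =>
        obtain ⟨p, hp⟩ := ih
        obtain ⟨q, -, hq⟩ := hstep j _ hp
        exact ⟨p + q, by rw [map_add, ← sub_sub]; exact hq⟩
    obtain ⟨p, hp⟩ := h n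
    rw [show I ^ n = ⊥ by rw [← Ideal.map_pow, hn, Ideal.zero_eq_bot, Ideal.map_bot], Ideal.mem_bot] at hp
    exact ⟨p, (sub_eq_zero.1 hp).symm⟩
  haveI := D.flat
  haveI : Module.Flat A (MvPolynomial ι A ⧸ RingHom.ker F) :=
    Module.Flat.of_linearEquiv (Ideal.quotientKerAlgEquivOfSurjective hsurj).toLinearEquiv
  choose r₀ hr₀ using fun s => red_surjective (A := A) (P.relation s)
  have hr : ∀ s, ∃ x ∈ RingHom.ker F, red ι A x = P.relation s := fun s => by
    have h1 : F (r₀ s) ∈ I₀.map F.toRingHom := by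
      rw [hII]
      show F (r₀ s) ∈ (RingHom.ker A.res).map (algebraMap A D.E)
      rw [← D.ker, RingHom.mem_ker, hF, hr₀, aeval_relation]
    obtain ⟨m, hm, hm'⟩ := (Ideal.mem_map_iff_of_surjective F.toRingHom hsurj).1 h1
    refine ⟨r₀ s - m, by rw [RingHom.mem_ker, map_sub, sub_eq_zero]; exact hm'.symm, ?_⟩
    rw [map_sub, hr₀, (red_eq_zero_iff m).2 hm, sub_zero]
  choose r hrK hrred using hr
  refine ⟨F, r, hsurj, hF, le_antisymm ?_ (Ideal.span_le.2 (Set.range_subset_iff.2 hrK)), hrred⟩
  refine GrothLib.DefLift.le_of_le_sup_mul (N := I₀) ?_ fun x hx => ?_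
  · obtain ⟨n, hn⟩ := isNilpotent_ker_res A
    exact ⟨n, by rw [← Ideal.map_pow, hn, Ideal.zero_eq_bot, Ideal.map_bot]; rfl⟩
  · have h1 : red ι A x ∈ (Ideal.span (Set.range r)).map (red ι A) := by
      rw [Ideal.map_span, ← Set.range_comp, show red ι A ∘ r = P.relation from funext hrred,
        P.span_range_relation_eq_ker, Algebra.Generators.ker_eq_ker_aeval_val, RingHom.mem_ker, ← hF,
        RingHom.mem_ker.1 hx, map_zero]
    obtain ⟨b, hb, hbx⟩ := (Ideal.mem_map_iff_of_surjective _ red_surjective).1 h1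
    have h2 : x - b ∈ I₀ := (red_eq_zero_iff _).1 (by rw [map_sub, hbx, sub_self])
    have hbK : b ∈ RingHom.ker F := Ideal.span_le.2 (Set.range_subset_iff.2 hrK) hb
    exact Submodule.mem_sup.2 ⟨b, hb, x - b,
      GrothLib.DefLift.inf_map_le_mul (RingHom.ker A.res) (RingHom.ker F) ⟨sub_mem hx hbK, h2⟩, by abel⟩

/-- Coefficientwise reduction of vectors. -/
abbrev redVec (q : σ →₀ MvPolynomial ι A) : σ →₀ MvPolynomial ι k := q.mapRange (red ι A) (map_zero _)

theorem redVec_surjective : Function.Surjective (redVec (σ := σ) (ι := ι) (A := A)) :=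
  Finsupp.mapRange_surjective _ (map_zero _) red_surjective

theorem red_linearCombination (r : σ → MvPolynomial ι A) (q : σ →₀ MvPolynomial ι A) :
    red ι A (Finsupp.linearCombination _ r q) =
      Finsupp.linearCombination _ (fun s => red ι A (r s)) (redVec q) := by
  simp only [Finsupp.linearCombination_apply, smul_eq_mul]
  rw [Finsupp.sum_mapRange_index (by simp)]
  simp [Finsupp.sum, map_sum]

variable {D : GrothLib.AffDef.AffData A B₀} {F : MvPolynomial ι A →ₐ[A] D.E} {r : σ → MvPolynomial ι A}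
  (hF : Function.Surjective F) (hker : RingHom.ker F = Ideal.span (Set.range r))

include hF hker

/-- Relations of the special fibre lift. -/
theorem exists_lift_relation (q : σ →₀ MvPolynomial ι k)
    (hq : Finsupp.linearCombination _ (fun s => red ι A (r s)) q = 0) :
    ∃ q' : σ →₀ MvPolynomial ι A, redVec q' = q ∧ Finsupp.linearCombination _ r q' = 0 := by
  classical
  haveI := D.flat
  haveI : Module.Flat A (MvPolynomial ι A ⧸ RingHom.ker F) :=
    Module.Flat.of_linearEquiv (Ideal.quotientKerAlgEquivOfSurjective hF).toLinearEquiv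
  obtain ⟨q₀, hq₀⟩ := redVec_surjective (A := A) q
  subst hq₀
  set z := Finsupp.linearCombination (MvPolynomial ι A) r q₀ with hz
  have h1 : z ∈ (RingHom.ker A.res).map (algebraMap A (MvPolynomial ι A)) :=
    (red_eq_zero_iff _).1 (by rw [red_linearCombination]; exact hq)
  have h2 : z ∈ RingHom.ker F := by
    rw [hker, Finsupp.mem_ideal_span_range_iff_exists_finsupp]
    exact ⟨q₀, by rw [hz, Finsupp.linearCombination_apply]; rfl⟩
  have h3 := GrothLib.DefLift.inf_map_le_mul (RingHom.ker A.res) (RingHom.ker F) ⟨h2, h1⟩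
  obtain ⟨δ, hδ, hδz⟩ : ∃ δ, redVec δ = 0 ∧ Finsupp.linearCombination _ r δ = z := by
    refine Submodule.mul_induction_on h3 (fun a ha b hb => ?_) ?_
    · rw [hker, Finsupp.mem_ideal_span_range_iff_exists_finsupp] at hb
      obtain ⟨g, rfl⟩ := hb
      refine ⟨a • g, ?_, by rw [map_smul, Finsupp.linearCombination_apply]; rfl⟩
      ext s : 1
      simp [redVec, (red_eq_zero_iff a).2 ha]
    · rintro x y ⟨δ, hδ, rfl⟩ ⟨δ', hδ', rfl⟩
      refine ⟨δ + δ', ?_, map_add _ _ _⟩
      ext s : 1
      have e1 := DFunLike.congr_fun hδ s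
      have e2 := DFunLike.congr_fun hδ' s
      simp [redVec] at e1 e2 ⊢
      rw [e1, e2, add_zero]
  refine ⟨q₀ - δ, ?_, by rw [map_sub, hδz, ← hz, sub_self]⟩
  ext s : 1
  have e1 := DFunLike.congr_fun hδ s
  simp [redVec] at e1 ⊢
  exact e1

/-- Relations vanishing on the special fibre are in `m` times relations. -/
theorem relation_mem_smul (δ : σ →₀ MvPolynomial ι A) (h0 : redVec δ = 0)
    (hrel : Finsupp.linearCombination _ r δ = 0) :
    δ ∈ RingHom.ker A.res •
      (LinearMap.ker ((Finsupp.linearCombination (MvPolynomial ι A) r).restrictScalars A)) := by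
  classical
  haveI := D.flat
  let K : Submodule A (MvPolynomial ι A) := (Ideal.span (Set.range r)).restrictScalars A
  let lc : (σ →₀ MvPolynomial ι A) →ₗ[A] MvPolynomial ι A :=
    (Finsupp.linearCombination (MvPolynomial ι A) r).restrictScalars A
  let g : (σ →₀ MvPolynomial ι A) →ₗ[A] K := lc.codRestrict K fun q => by
    show Finsupp.linearCombination (MvPolynomial ι A) r q ∈ Ideal.span (Set.range r)
    rw [Finsupp.mem_ideal_span_range_iff_exists_finsupp]
    exact ⟨q, by rw [Finsupp.linearCombination_apply]; rfl⟩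
  have hg : Function.Surjective g := fun z => by
    obtain ⟨q, hq⟩ := (Finsupp.mem_ideal_span_range_iff_exists_finsupp).1 (show (z : MvPolynomial ι A) ∈ Ideal.span (Set.range r) from z.2)
    exact ⟨q, Subtype.ext (by
      show Finsupp.linearCombination (MvPolynomial ι A) r q = _
      rw [Finsupp.linearCombination_apply]; exact hq)⟩
  haveI : Module.Flat A K := GrothLib.BlowUp.flat_of_exact_left K.subtype Subtype.val_injective F.toLinearMap hF
    fun z => by
      rw [AlgHom.toLinearMap_apply, ← RingHom.mem_ker, hker]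
      exact ⟨fun hz => ⟨⟨z, hz⟩, rfl⟩, fun ⟨w, hw⟩ => hw ▸ w.2⟩
  let Rel : Submodule A (σ →₀ MvPolynomial ι A) := LinearMap.ker lc
  have hex : Function.Exact Rel.subtype g := fun z => by
    refine ⟨fun hz => ⟨⟨z, ?_⟩, rfl⟩, ?_⟩
    · exact LinearMap.mem_ker.2 (congrArg Subtype.val hz)
    · rintro ⟨w, rfl⟩
      exact Subtype.ext (LinearMap.mem_ker.1 w.2)
  have hinj := LinearMap.lTensor_injective_of_exact_of_flat (M := ↥Rel) (N := σ →₀ MvPolynomial ι A) g hg
    Rel.subtype (fun a b h => Subtype.ext h) hex (A ⧸ RingHom.ker A.res)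
  have hδ : δ ∈ RingHom.ker A.res • (⊤ : Submodule A (σ →₀ MvPolynomial ι A)) := by
    rw [← δ.sum_single]
    refine Submodule.sum_mem _ fun s _ => ?_
    have h1 : δ s ∈ RingHom.ker A.res • (⊤ : Submodule A (MvPolynomial ι A)) := by
      rw [Ideal.smul_top_eq_map, Submodule.restrictScalars_mem, ← red_eq_zero_iff]
      simpa [redVec] using DFunLike.congr_fun h0 s
    refine Submodule.smul_induction_on h1 (fun c hc p _ => ?_) fun x y hx hy => by
      rw [Finsupp.single_add]; exact add_mem hx hy
    rw [← Finsupp.smul_single]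
    exact Submodule.smul_mem_smul hc trivial
  have hz : (1 : A ⧸ RingHom.ker A.res) ⊗ₜ[A] (⟨δ, LinearMap.mem_ker.2 hrel⟩ : Rel) = 0 := by
    refine hinj ?_
    rw [map_zero, LinearMap.lTensor_tmul, GrothLib.Flatness.one_tmul_eq_zero_iff]
    exact hδ
  replace hz := (GrothLib.Flatness.one_tmul_eq_zero_iff (M := Rel) _ _).1 hz
  have := Submodule.mem_map_of_mem (f := Rel.subtype) hz
  rwa [Submodule.map_smul'', Submodule.map_top, Submodule.range_subtype] at this

end GrothLib.T2Obs26
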