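import Groth.Agent.Lib.AffDef26.Scheme
import Groth.Agent.Lib.AffDef26.Rigid
import Groth.Agent.Lib.CotT.Exal
import Groth.Prelude.Def_ArtFun4
import Groth.Agent.Lib.T2Obs26.Theta

/-!
# First order deformations of an affine scheme and `T¹`
-/

noncomputable section

universe u

open CategoryTheory CategoryTheory.Limits AlgebraicGeometry ArtFun ArtFun.Art TensorProduct GrothLib.AffDef

namespace GrothLib.T2Obs26

attribute [local instance] Exal.opModule Exal.isCentralScalar_opModule

variable {k : Type u} [Field k] {B₀ : Type u} [CommRing B₀] [Algebra k B₀] {ι σ : Type u}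
  (P : Algebra.Presentation k B₀ ι σ) {C' C'' : ArtFun.Art k k}

local notation "X₀" => Spec (CommRingCat.of B₀)
local notation "x₀" => Spec.map (CommRingCat.ofHom (algebraMap k B₀))

theorem T1map_id {M : Type u} [AddCommGroup M] [Module B₀ M] (τ : CotT.T1 P M) :
    CotT.T1map P LinearMap.id τ = τ := by
  induction τ using Submodule.Quotient.induction_on with
  | H φ => exact congrArg Submodule.Quotient.mk (Subtype.ext (LinearMap.ext fun _ => rfl))

theorem T1map_comp {M N L : Type u} [AddCommGroup M] [Module B₀ M] [AddCommGroup N] [Module B₀ N]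
    [AddCommGroup L] [Module B₀ L] (g : M →ₗ[B₀] N) (g' : N →ₗ[B₀] L) (τ : CotT.T1 P M) :
    CotT.T1map P g' (CotT.T1map P g τ) = CotT.T1map P (g' ∘ₗ g) τ := by
  induction τ using Submodule.Quotient.induction_on with
  | H φ => rfl

theorem T1map_add {M N : Type u} [AddCommGroup M] [Module B₀ M] [AddCommGroup N] [Module B₀ N]
    (g g' : M →ₗ[B₀] N) (τ : CotT.T1 P M) : CotT.T1map P (g + g') τ = CotT.T1map P g τ + CotT.T1map P g' τ := by
  induction τ using Submodule.Quotient.induction_on with
  | H φ => exact congrArg Submodule.Quotient.mk (Subtype.ext (LinearMap.ext fun _ => rfl))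

theorem T1map_smul {M N : Type u} [AddCommGroup M] [Module B₀ M] [AddCommGroup N] [Module B₀ N]
    (g : M →ₗ[B₀] N) (b : B₀) (τ : CotT.T1 P M) : CotT.T1map P (b • g) τ = b • CotT.T1map P g τ := by
  induction τ using Submodule.Quotient.induction_on with
  | H φ => exact congrArg Submodule.Quotient.mk (Subtype.ext (LinearMap.ext fun _ => rfl))

/-- The deformation over the residue field. -/
def baseData : AffData (Art.base k k) B₀ where
  E := B₀
  commRing := inferInstance
  algebra := (inferInstance : Algebra k B₀)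
  flat := (inferInstance : Module.Flat k B₀)
  ι := RingHom.id B₀
  surj := fun b => ⟨b, rfl⟩
  ker := by
    rw [show RingHom.ker (Art.base k k).res = ⊥ from (RingHom.injective_iff_ker_eq_bot _).1 fun _ _ h => h,
      Ideal.map_bot]
    exact (RingHom.injective_iff_ker_eq_bot _).1 fun _ _ h => h
  comm := fun a => rfl

/-- The kernel of the residue map. -/
abbrev mker (C' : ArtFun.Art k k) : Ideal C' := RingHom.ker (Art.toBase C').toAlgHom

/-- The structure maps of an extension given by a deformation. -/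
def IsTangExt (D : AffData C' B₀) (X : Exal.Ext k B₀ (B₀ ⊗[k] mker C')) : Prop :=
  ∃ e : X.E ≃+* D.E, (∀ c, e (algebraMap k X.E c) = algebraMap C' D.E (algebraMap k C' c)) ∧
    (∀ y, X.proj y = D.ι (e y)) ∧
    ∀ (y : D.E) (j : mker C'), e (X.incl (D.ι y ⊗ₜ j)) = algebraMap C' D.E j * y

theorem exists_isTangExt (hC : IsSemismallExt (Art.toBase C')) (D : AffData C' B₀) :
    ∃ X : Exal.Ext k B₀ (B₀ ⊗[k] mker C'), IsTangExt D X := by
  letI := algR (Art.toBase C') (baseData (k := k) (B₀ := B₀))
  letI : Algebra (baseData (k := k) (B₀ := B₀)).E B₀ := (baseData (k := k) (B₀ := B₀)).ι.toAlgebra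
  have S := GrothLib.AffDef.setting (Art.toBase C') (D := baseData (k := k) (B₀ := B₀)) hC
  let π : D.E →ₐ[C'] (baseData (k := k) (B₀ := B₀)).E :=
    { D.ι with commutes' := fun c => D.comm c }
  let L : Lift C' (mker C') (baseData (k := k) (B₀ := B₀)).E := ⟨D.E, D.flat, π, D.surj, D.ker⟩
  obtain ⟨θ, hext, hθ⟩ := exists_ext S L
  letI : Algebra k D.E := ((algebraMap C' D.E).comp (algebraMap k C')).toAlgebra
  let pr : D.E →ₐ[k] B₀ :=
    { D.ι with
      commutes' := fun c => (D.comm _).trans (by rw [AlgHom.commutes]; rfl) }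
  refine ⟨{ E := D.E, proj := pr, incl := θ
            isExtension := ⟨D.surj, hext.incl_injective, hext.exact, hext.mul_incl⟩ },
    RingEquiv.refl _, fun c => rfl, fun y => rfl, fun y j => hθ y j⟩

/-- A first order deformation gives a class in `T¹`. -/
theorem tang_congr {D : AffData C' B₀} {D' : AffData C'' B₀} {X : Exal.Ext k B₀ (B₀ ⊗[k] mker C')}
    {Y : Exal.Ext k B₀ (B₀ ⊗[k] mker C'')} (hX : IsTangExt D X) (hY : IsTangExt D' Y)
    (f : C' →ₐ[k] C'') (fJ : mker C' →ₗ[k] mker C'') (hfJ : ∀ j : mker C', (fJ j : C'') = f j)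
    (g : D.E →+* D'.E) (hg : ∀ c, g (algebraMap C' D.E c) = algebraMap C'' D'.E (f c))
    (hgι : ∀ y, D'.ι (g y) = D.ι y) :
    GrothLib.CotT.extToT1 P Y = CotT.T1map P (fJ.baseChange B₀) (GrothLib.CotT.extToT1 P X) := by
  obtain ⟨e, he, hep, hei⟩ := hX
  obtain ⟨e', he', hep', hei'⟩ := hY
  obtain ⟨G⟩ := GrothLib.CotT.exists_lift_hom P X
  let h : X.E →ₐ[k] Y.E :=
    { (e'.symm : D'.E →+* Y.E).comp (g.comp (e : X.E →+* D.E)) with
      commutes' := fun c => by
        show e'.symm (g (e (algebraMap k X.E c))) = _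
        rw [he, hg, AlgHom.commutes, RingEquiv.symm_apply_eq, he'] }
  have hproj : ∀ x, Y.proj (h x) = X.proj x := fun x => by
    rw [hep', hep]
    show D'.ι (e' (e'.symm (g (e x)))) = _
    rw [RingEquiv.apply_symm_apply, hgι]
  have hincl : ∀ m, h (X.incl m) = Y.incl (fJ.baseChange B₀ m) := fun m => by
    induction m using TensorProduct.induction_on with
    | zero => simp
    | add a b ha hb => rw [map_add, map_add, ha, hb, map_add, map_add]
    | tmul b j =>
      obtain ⟨y, rfl⟩ := D.surj b
      show e'.symm (g (e (X.incl (D.ι y ⊗ₜ j)))) = _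
      rw [hei, map_mul, hg, ← hfJ, RingEquiv.symm_apply_eq, LinearMap.baseChange_tmul, ← hgι, hei']
  let G' : GrothLib.CotT.Lifts P Y := ⟨h.comp G.1, fun r => (hproj _).trans (G.2 r)⟩
  rw [GrothLib.CotT.extToT1_eq P G, GrothLib.CotT.extToT1_eq P G']
  refine Eq.trans (congrArg _ (LinearMap.ext fun c => ?_))
    (show CotT.homToT1 P _ ((fJ.baseChange B₀).comp (GrothLib.CotT.cocycle P G)) =
      CotT.T1map P (fJ.baseChange B₀) (CotT.homToT1 P _ (GrothLib.CotT.cocycle P G)) from rfl)
  obtain ⟨i, rfl⟩ := Algebra.Extension.Cotangent.mk_surjective c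
  apply Y.isExtension.incl_injective
  rw [GrothLib.CotT.incl_cocycle, LinearMap.comp_apply, ← hincl, GrothLib.CotT.incl_cocycle]
  rfl

/-- A morphism of rings underlying a morphism of deformations. -/
theorem exists_ringHom (f : C' ⟶ C'') {D : AffData C' B₀} {D' : AffData C'' B₀}
    (φ : D'.toDefSch.total ⟶ D.toDefSch.total) (hf : φ ≫ D.toDefSch.f = D'.toDefSch.f ≫ specMap f)
    (hi : D'.toDefSch.i ≫ φ = D.toDefSch.i) :
    ∃ g : D.E →+* D'.E, (∀ c, g (algebraMap C' D.E c) = algebraMap C'' D'.E (f c)) ∧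
      ∀ y, D'.ι (g y) = D.ι y := by
  let g : CommRingCat.of D.E ⟶ CommRingCat.of D'.E := Spec.preimage φ
  have hg : Spec.map g = φ := Spec.map_preimage _
  have h1 : CommRingCat.ofHom (algebraMap C' D.E) ≫ g =
      CommRingCat.ofHom f.toAlgHom.toRingHom ≫ CommRingCat.ofHom (algebraMap C'' D'.E) := by
    apply Spec.map_injective
    rw [Spec.map_comp, Spec.map_comp, hg]
    exact hf
  have h2 : g ≫ CommRingCat.ofHom D'.ι = CommRingCat.ofHom D.ι := by
    apply Spec.map_injective
    rw [Spec.map_comp, hg]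
    exact hi
  exact ⟨g.hom, fun c => congrArg (fun t : CommRingCat.of C' ⟶ CommRingCat.of D'.E => t.hom c) h1,
    fun y => congrArg (fun t : CommRingCat.of D.E ⟶ CommRingCat.of B₀ => t.hom y) h2⟩

theorem exists_ringHom_of_map_cl (f : C' ⟶ C'') {D : AffData C' B₀} {D' : AffData C'' B₀}
    (h : (defFunctor (Λ := k) X₀ x₀).map f D.toDefSch.cl = D'.toDefSch.cl) :
    ∃ g : D.E →+* D'.E, (∀ c, g (algebraMap C' D.E c) = algebraMap C'' D'.E (f c)) ∧
      ∀ y, D'.ι (g y) = D.ι y := by
  obtain ⟨e⟩ := Quotient.exact h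
  refine exists_ringHom f (e.iso.inv ≫ pullback.fst D.toDefSch.f (specMap f)) ?_ ?_
  · rw [Category.assoc, pullback.condition, ← Category.assoc]
    congr 1
    rw [Iso.inv_comp_eq]
    exact e.hom_f.symm
  · rw [show D'.toDefSch.i = (D.toDefSch.baseChange f).i ≫ e.iso.hom from e.i_hom.symm, Category.assoc,
      Iso.hom_inv_id_assoc, DefSch.baseChange_i_fst]

/-- An isomorphism of first order deformations from an equivalence of extensions. -/
theorem cl_eq_of_equiv {D D' : AffData C' B₀} {X Y : Exal.Ext k B₀ (B₀ ⊗[k] mker C')} (hX : IsTangExt D X)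
    (hY : IsTangExt D' Y) (ε : Exal.Ext.Equiv X Y) : D.toDefSch.cl = D'.toDefSch.cl := by
  obtain ⟨e, he, hep, hei⟩ := hX
  obtain ⟨e', he', hep', hei'⟩ := hY
  let g : D.E ≃+* D'.E := e.symm.trans (ε.toAlgEquiv.toRingEquiv.trans e')
  have hgι : ∀ y, D'.ι (g y) = D.ι y := fun y => by
    show D'.ι (e' (ε.toAlgEquiv (e.symm y))) = _
    rw [← hep', ε.proj_apply, hep, RingEquiv.apply_symm_apply]
  have hg : ∀ c, g (algebraMap C' D.E c) = algebraMap C' D'.E c := fun c => by
    have hc : c - algebraMap k C' (C'.res c) ∈ mker C' := by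
      show C'.res (c - algebraMap k C' (C'.res c)) = 0
      rw [map_sub, AlgHom.commutes]
      simp
    have h1 : e.symm (algebraMap C' D.E c) =
        algebraMap k X.E (C'.res c) + X.incl ((1 : B₀) ⊗ₜ ⟨_, hc⟩) := by
      rw [RingEquiv.symm_apply_eq, map_add, he, ← D.ι.map_one, hei, mul_one, map_sub, add_sub_cancel]
    show e' (ε.toAlgEquiv (e.symm (algebraMap C' D.E c))) = _
    rw [h1, map_add, AlgEquiv.commutes, ε.apply_incl, map_add, he', ← D'.ι.map_one, hei', mul_one,
      map_sub, add_sub_cancel]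
  let I : Spec (CommRingCat.of D.E) ≅ Spec (CommRingCat.of D'.E) :=
    Scheme.Spec.mapIso g.toCommRingCatIso.symm.op
  refine Quotient.sound ⟨⟨I, ?_, ?_⟩⟩
  · show Spec.map _ ≫ Spec.map _ = Spec.map _
    rw [← Spec.map_comp]
    congr 1
    ext c
    show g.symm (algebraMap C' D'.E c) = algebraMap C' D.E c
    rw [← hg, RingEquiv.symm_apply_apply]
  · show Spec.map _ ≫ Spec.map _ = Spec.map _
    rw [← Spec.map_comp]
    congr 1
    ext y
    show D.ι (g.symm y) = D'.ι y
    rw [← hgι, RingEquiv.apply_symm_apply]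

/-- Every extension comes from a first order deformation. -/
theorem exists_affData_of_ext (hC : IsSemismallExt (Art.toBase C')) (X : Exal.Ext k B₀ (B₀ ⊗[k] mker C')) :
    ∃ D : AffData C' B₀, IsTangExt D X := by
  classical
  let R := (baseData (k := k) (B₀ := B₀))
  letI := algR (Art.toBase C') R
  letI : Algebra R.E B₀ := R.ι.toAlgebra
  have S := GrothLib.AffDef.setting (Art.toBase C') (D := R) hC
  have hm : ∀ c, c - algebraMap k C' (C'.res c) ∈ mker C' := fun c => by
    show C'.res (c - algebraMap k C' (C'.res c)) = 0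
    rw [map_sub, AlgHom.commutes]
    simp
  let pr : C' → mker C' := fun c => ⟨_, hm c⟩
  let φ : C' →+* X.E :=
    { toFun := fun c => algebraMap k X.E (C'.res c) + X.incl ((1 : B₀) ⊗ₜ pr c)
      map_one' := by
        rw [show pr 1 = 0 from Subtype.ext (by simp [pr]), tmul_zero, map_zero, add_zero, map_one, map_one]
      map_zero' := by
        rw [show pr 0 = 0 from Subtype.ext (by simp [pr])]; simp
      map_add' := fun a b => by
        rw [show pr (a + b) = pr a + pr b from Subtype.ext (by simp [pr]; ring), tmul_add, map_add, map_add, map_add]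
        abel
      map_mul' := fun a b => by
        have h0 : ((pr a : C') * (pr b : C')) = 0 := by
          have h := Ideal.mul_mem_mul ((Art.mem_maximalIdeal_iff C' (pr a : C')).2 (hm a)) (pr b).2
          rw [hC.2, Ideal.mem_bot] at h
          exact h
        have hp : pr (a * b) = C'.res a • pr b + C'.res b • pr a := Subtype.ext (by
          rw [Submodule.coe_add, Submodule.coe_smul_of_tower, Submodule.coe_smul_of_tower, Algebra.smul_def,
            Algebra.smul_def]
          show a * b - algebraMap k C' (C'.res (a * b)) = _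
          simp only [map_mul]
          linear_combination h0)
        rw [hp, tmul_add, map_add, map_mul, map_mul, add_mul, mul_add, mul_add,
          GrothLib.CotT.incl_mul_incl, add_zero, mul_comm (X.incl _) (algebraMap k X.E _),
          X.isExtension.mul_incl, X.isExtension.mul_incl, AlgHom.commutes, AlgHom.commutes, algebraMap_smul,
          algebraMap_smul, tmul_smul, tmul_smul]
        abel }
  letI : Algebra C' X.E := φ.toAlgebra
  have hφj : ∀ j : mker C', φ (j : C') = X.incl ((1 : B₀) ⊗ₜ j) := fun j => by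
    show algebraMap k X.E (C'.res (j : C')) + _ = _
    rw [show C'.res (j : C') = 0 from j.2, map_zero, zero_add]
    congr 2
    exact Subtype.ext (by simp [pr, show C'.res (j : C') = 0 from j.2])
  let π : X.E →ₐ[C'] R.E :=
    { (X.proj : X.E →+* B₀) with
      commutes' := fun c => by
        show X.proj (algebraMap k X.E (C'.res c) + X.incl _) = algebraMap k B₀ (C'.res c)
        rw [map_add, AlgHom.commutes, GrothLib.CotT.proj_incl, add_zero] }
  let X' : Exal.Ext C' R.E (B₀ ⊗[k] mker C') :=
    { E := X.E, proj := π, incl := X.incl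
      isExtension := ⟨X.isExtension.proj_surjective, X.isExtension.incl_injective, X.isExtension.exact,
        X.isExtension.mul_incl⟩ }
  obtain ⟨hflat, hker, hform⟩ := exists_lift_of_ext S X' fun j => (hφj j).symm
  refine ⟨{ E := X.E, flat := hflat, ι := X.proj, surj := X.isExtension.proj_surjective,
            ker := hker, comm := fun c => π.commutes c }, RingEquiv.refl _, fun c => ?_, fun y => rfl, fun y j => hform y j⟩
  show algebraMap k X.E c = algebraMap k X.E (C'.res (algebraMap k C' c)) + X.incl _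
  rw [AlgHom.commutes, show pr (algebraMap k C' c) = 0 from Subtype.ext (by simp [pr]), tmul_zero, map_zero,
    add_zero]
  rfl

/-- The class in `T¹` of a first order deformation. -/
theorem exists_tang (hC : IsSemismallExt (Art.toBase C')) :
    ∃ t : (defFunctor (Λ := k) X₀ x₀).obj C' → CotT.T1 P (B₀ ⊗[k] mker C'),
      Function.Bijective t ∧ ∀ (D : AffData C' B₀) X, IsTangExt D X → t D.toDefSch.cl = GrothLib.CotT.extToT1 P X := by
  have h : ∀ u : (defFunctor (Λ := k) X₀ x₀).obj C', ∃ D X, IsTangExt (C' := C') D X ∧ D.toDefSch.cl = u := fun u => by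
    induction u using Quotient.inductionOn with
    | h ξ =>
      obtain ⟨D, ⟨e⟩⟩ := exists_affData ξ
      obtain ⟨X, hX⟩ := exists_isTangExt hC D
      exact ⟨D, X, hX, Quotient.sound ⟨e.symm⟩⟩
  choose D X hX hD using h
  have hwd : ∀ (E : AffData C' B₀) Y, IsTangExt E Y → GrothLib.CotT.extToT1 P (X E.toDefSch.cl) =
      GrothLib.CotT.extToT1 P Y := fun E Y hY => by
    have hm : (defFunctor (Λ := k) X₀ x₀).map (𝟙 C') E.toDefSch.cl = (D E.toDefSch.cl).toDefSch.cl := by
      rw [hD, defFunctor_map_cl]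
      exact Quotient.sound ⟨DefSch.baseChangeId _⟩
    obtain ⟨g, hg, hgι⟩ := exists_ringHom_of_map_cl (𝟙 C') hm
    have := tang_congr P hY (hX E.toDefSch.cl) (AlgHom.id k C') LinearMap.id (fun _ => rfl) g hg hgι
    rw [this, LinearMap.baseChange_id]
    exact T1map_id P _
  refine ⟨fun u => GrothLib.CotT.extToT1 P (X u), ⟨fun u v e => ?_, fun τ => ?_⟩, hwd⟩
  · obtain ⟨ε⟩ := Quotient.exact (GrothLib.CotT.exalToT1_injective P (a₁ := (X u).cl) (a₂ := (X v).cl) e)
    rw [← hD u, ← hD v]
    exact cl_eq_of_equiv (hX u) (hX v) ε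
  · obtain ⟨z, rfl⟩ := GrothLib.CotT.exalToT1_surjective P τ
    induction z using Quotient.inductionOn with
    | h Y =>
      obtain ⟨E, hE⟩ := exists_affData_of_ext hC Y
      exact ⟨E.toDefSch.cl, hwd E Y hE⟩

end GrothLib.T2Obs26
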